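import Mathlib

/-!
# Integral columns of norm sixteen

The arithmetic used for the principal `2`-block with elementary abelian defect group of order
sixteen: the shapes of a column of norm sixteen without zeros, and the nonexistence of the shapes
with thirteen or ten entries next to two orthogonal integral idempotent matrices.
-/

set_option autoImplicit false

namespace CfsgLib.E16

open Finset
open scoped Classical

variable {ι : Type*} [Fintype ι]

/-- The part of a square above the smallest nonzero square of the same parity. -/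
theorem excess_cases (x : ℤ) (hx : x ≠ 0) :
    (x * x = 1 ∨ x * x = 4) ∨ 9 ≤ x * x := by
  by_cases h3 : 3 ≤ x ∨ x ≤ -3
  · right
    rcases h3 with h | h <;> nlinarith
  · left
    have h1 : -2 ≤ x := by omega
    have h2 : x ≤ 2 := by omega
    interval_cases x <;> simp_all

/-- **The shapes of a column of norm sixteen without zeros.** -/
theorem profile (a : ι → ℤ) (hne : ∀ i, a i ≠ 0) (hnorm : ∑ i, a i * a i = 16) :
    Fintype.card ι ≤ 8 ∨ ((∀ i, a i * a i = 1 ∨ a i * a i = 4) ∧
      Fintype.card ι + 3 * (univ.filter fun i => a i * a i = 4).card = 16) := by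
  by_cases hall : ∀ i, a i * a i = 1 ∨ a i * a i = 4
  · right
    refine ⟨hall, ?_⟩
    have h1 : ∑ i, a i * a i =
        ∑ i, ((1 : ℤ) + if a i * a i = 4 then 3 else 0) := by
      refine sum_congr rfl fun i _ => ?_
      rcases hall i with h | h <;> simp [h]
    rw [hnorm, sum_add_distrib, sum_ite, sum_const, sum_const, sum_const_zero, add_zero,
      card_univ] at h1
    simp only [nsmul_eq_mul, mul_one] at h1
    omega
  · left
    obtain ⟨i, hi⟩ := not_forall.1 hall
    have h9 := (excess_cases _ (hne i)).resolve_left hi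
    rw [← add_sum_erase _ _ (mem_univ i)] at hnorm
    have h1 : ((univ.erase i).card : ℤ) ≤ ∑ j ∈ univ.erase i, a j * a j := by
      rw [card_eq_sum_ones, Nat.cast_sum]
      refine sum_le_sum fun j _ => ?_
      rcases excess_cases _ (hne j) with (h | h) | h <;> · rw [Nat.cast_one]; omega
    rw [card_erase_of_mem (mem_univ i), card_univ] at h1
    omega

/-- A symmetric integral matrix whose square is sixteen times itself. -/
structure IsProj (P : ι → ι → ℤ) : Prop where
  symm : ∀ i j, P i j = P j i
  idem : ∀ i j, ∑ k, P i k * P k j = 16 * P i j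

/-- The quadratic form of a matrix. -/
def quad (P : ι → ι → ℤ) (x : ι → ℤ) : ℤ := ∑ i, x i * ∑ j, P i j * x j

theorem IsProj.sixteen_quad {P : ι → ι → ℤ} (h : IsProj P) (x : ι → ℤ) :
    16 * quad P x = ∑ k, (∑ j, P k j * x j) * ∑ j, P k j * x j := by
  calc 16 * quad P x = ∑ i, ∑ j, x i * (16 * P i j) * x j := by
        simp only [quad, mul_sum]
        exact sum_congr rfl fun i _ => sum_congr rfl fun j _ => by ring
    _ = ∑ i, ∑ j, ∑ k, (P k i * x i) * (P k j * x j) := by
        refine sum_congr rfl fun i _ => sum_congr rfl fun j _ => ?_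
        rw [← h.idem, mul_sum, sum_mul]
        exact sum_congr rfl fun k _ => by rw [h.symm i k]; ring
    _ = ∑ k, (∑ j, P k j * x j) * ∑ j, P k j * x j := by
        simp only [sum_mul_sum]
        exact (sum_congr rfl fun i _ => sum_comm).trans sum_comm

theorem IsProj.quad_nonneg {P : ι → ι → ℤ} (h : IsProj P) (x : ι → ℤ) : 0 ≤ quad P x := by
  have h1 := h.sixteen_quad x
  have h2 : 0 ≤ ∑ k, (∑ j, P k j * x j) * ∑ j, P k j * x j :=
    sum_nonneg fun k _ => mul_self_nonneg _
  omega

theorem IsProj.kills_of_quad_eq_zero {P : ι → ι → ℤ} (h : IsProj P) {x : ι → ℤ}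
    (hx : quad P x = 0) (k : ι) : ∑ j, P k j * x j = 0 := by
  have h1 := h.sixteen_quad x
  rw [hx, mul_zero, eq_comm, sum_eq_zero_iff_of_nonneg fun k _ => mul_self_nonneg _] at h1
  exact mul_self_eq_zero.1 (h1 k (mem_univ k))

theorem IsProj.sum_row_sq {P : ι → ι → ℤ} (h : IsProj P) (c : ι) :
    ∑ j, P c j * P c j = 16 * P c c := by
  rw [← h.idem]
  exact sum_congr rfl fun j _ => by rw [h.symm j c]

/-- The quadratic form at the sum of two unit vectors. -/
theorem quad_pair (P : ι → ι → ℤ) {i j : ι} (hij : i ≠ j) :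
    quad P (fun k => if k = i ∨ k = j then 1 else 0) = P i i + P i j + (P j i + P j j) := by
  have h : ∀ f : ι → ℤ, ∑ k, f k * (if k = i ∨ k = j then 1 else 0) = f i + f j := fun f => by
    rw [Fintype.sum_eq_add i j hij fun k hk => by rw [if_neg (by tauto), mul_zero]]
    simp
  simp only [quad, h]
  rw [Fintype.sum_eq_add i j hij fun k hk => by rw [if_neg (by tauto), zero_mul]]
  simp

/-- The data: two idempotents and a column leaving room for a third idempotent. -/
structure Config (a : ι → ℤ) (o : ι) (P Q : ι → ι → ℤ) : Prop where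
  projP : IsProj P
  projQ : IsProj Q
  projT : IsProj fun i j => (if i = j then 16 else 0) - P i j - Q i j - a i * a j
  congP : ∀ i j, (4 : ℤ) ∣ P i j + a i * a j
  congQ : ∀ i j, (4 : ℤ) ∣ Q i j + a i * a j
  norm : ∑ i, a i * a i = 16
  trace : ∑ i, P i i = 48
  oneP : P o o = 3
  oneQ : Q o o = 3

variable {a : ι → ℤ} {o : ι} {P Q : ι → ι → ℤ}

theorem Config.swap (h : Config a o P Q) (htr : ∑ i, Q i i = 48) : Config a o Q P where
  projP := h.projQ
  projQ := h.projP
  projT := by
    have := h.projT
    simpa [sub_right_comm] using this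
  congP := h.congQ
  congQ := h.congP
  norm := h.norm
  trace := htr
  oneP := h.oneQ
  oneQ := h.oneP

theorem Config.kills (h : Config a o P Q) (k : ι) :
    ∑ j, P k j * a j = 0 ∧ ∑ j, Q k j * a j = 0 := by
  have hP := h.projP.quad_nonneg a
  have hQ := h.projQ.quad_nonneg a
  have hT := h.projT.quad_nonneg a
  have hsum : quad (fun i j => (if i = j then 16 else 0) - P i j - Q i j - a i * a j) a =
      16 * 16 - quad P a - quad Q a - 16 * 16 := by
    have hA : ∑ i, a i * ∑ j, a i * a j * a j = 16 * 16 := by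
      rw [show (16 : ℤ) * 16 = (∑ i, a i * a i) * ∑ j, a j * a j by rw [h.norm], sum_mul]
      refine sum_congr rfl fun i _ => ?_
      rw [mul_sum, mul_sum]
      exact sum_congr rfl fun j _ => by ring
    have hI : ∑ i, a i * ∑ j, (if i = j then (16 : ℤ) else 0) * a j = 16 * 16 := by
      simp only [ite_mul, zero_mul, sum_ite_eq, mem_univ, if_true]
      conv_rhs => arg 2; rw [← h.norm]
      rw [mul_sum]
      exact sum_congr rfl fun i _ => by ring
    simp only [quad, sub_mul, sum_sub_distrib, mul_sub, hI, hA]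
  have hP0 : quad P a = 0 := by omega
  have hQ0 : quad Q a = 0 := by omega
  exact ⟨h.projP.kills_of_quad_eq_zero hP0 k, h.projQ.kills_of_quad_eq_zero hQ0 k⟩

/-- A base point with diagonal entry three gives an integral vector of norm four. -/
theorem tvec (h : IsProj P) (hk : ∀ k, ∑ j, P k j * a j = 0)
    (hc : ∀ i j, (4 : ℤ) ∣ P i j + a i * a j) (hn : ∑ i, a i * a i = 16) {c : ι} (hac : a c = 1)
    (hPc : P c c = 3) :
    ∃ t : ι → ℤ, t c = 1 ∧ (∀ b, P c b + a b = 4 * t b) ∧ ∑ b, t b * t b = 4 ∧
      ∑ b, t b * a b = 4 := by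
  choose t ht using fun b => hc c b
  simp only [hac, one_mul] at ht
  refine ⟨t, ?_, ht, ?_, ?_⟩
  · have := ht c
    rw [hPc, hac] at this
    omega
  · have h1 : ∑ b, (4 * t b) * (4 * t b) = 64 := by
      simp only [← ht]
      calc ∑ b, (P c b + a b) * (P c b + a b)
          = ∑ b, P c b * P c b + 2 * ∑ b, P c b * a b + ∑ b, a b * a b := by
            rw [mul_sum, ← sum_add_distrib, ← sum_add_distrib]
            exact sum_congr rfl fun b _ => by ring
        _ = 64 := by rw [h.sum_row_sq, hk, hn, hPc]; ring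
    rw [show ∑ b, (4 * t b) * (4 * t b) = 16 * ∑ b, t b * t b by
      rw [mul_sum]; exact sum_congr rfl fun b _ => by ring] at h1
    omega
  · have h1 : ∑ b, (4 * t b) * a b = 16 := by
      simp only [← ht, add_mul, sum_add_distrib, hk, hn, zero_add]
    rw [show ∑ b, (4 * t b) * a b = 4 * ∑ b, t b * a b by
      rw [mul_sum]; exact sum_congr rfl fun b _ => by ring] at h1
    omega

theorem sq_sub_self (x : ℤ) : 0 ≤ x * x - x ∧ 2 ∣ x * x - x := by
  refine ⟨?_, ?_⟩
  · rcases le_or_gt x 0 with h | h <;> nlinarith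
  · have := Int.even_mul_pred_self x
    rw [show x * x - x = x * (x - 1) by ring]
    exact even_iff_two_dvd.1 this

/-- The diagonal of the complement. -/
theorem Config.diag_le (h : Config a o P Q) (i : ι) : P i i + Q i i + a i * a i ≤ 16 := by
  have h1 := h.projT.sum_row_sq i
  have h2 : (0 : ℤ) ≤ ∑ j, ((if i = j then (16 : ℤ) else 0) - P i j - Q i j - a i * a j) *
      ((if i = j then (16 : ℤ) else 0) - P i j - Q i j - a i * a j) :=
    sum_nonneg fun j _ => mul_self_nonneg _
  simp only at h1
  simp only [if_pos, ite_true] at h1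
  omega

/-- An entry two in the column forces the entries of its row to be two up to sign. -/
theorem col_two (hP : IsProj P) (hc : ∀ i j, (4 : ℤ) ∣ P i j + a i * a j) {i : ι} (hi : a i = 2)
    (ha : ∀ b, b ≠ i → a b = 1) (hcard : Fintype.card ι = 13) :
    4 ≤ P i i ∧ (P i i ≤ 8 → P i i = 4 ∧ ∀ b, b ≠ i → P i b = 2 ∨ P i b = -2) := by
  have hsum := hP.sum_row_sq i
  have hsplit : ∑ j, P i j * P i j = P i i * P i i + ∑ j ∈ univ.erase i, P i j * P i j :=
    (add_sum_erase _ _ (mem_univ i)).symm
  have hcases : ∀ b, b ≠ i → (P i b = 2 ∨ P i b = -2) ∨ 36 ≤ P i b * P i b := by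
    intro b hb
    obtain ⟨w, hw⟩ := hc i b
    rw [hi, ha b hb] at hw
    by_cases h6 : 6 ≤ P i b ∨ P i b ≤ -6
    · right
      rcases h6 with h | h <;> nlinarith
    · left
      omega
  have h4 : ∀ b, b ≠ i → 4 ≤ P i b * P i b := fun b hb => by
    rcases hcases b hb with (h | h) | h
    · rw [h]; norm_num
    · rw [h]; norm_num
    · omega
  have hlow : (4 : ℤ) * 12 ≤ ∑ j ∈ univ.erase i, P i j * P i j := by
    have := card_nsmul_le_sum (univ.erase i) (fun j => P i j * P i j) 4
      fun j hj => h4 j (ne_of_mem_erase hj)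
    rw [card_erase_of_mem (mem_univ i), card_univ, hcard] at this
    simpa using this
  obtain ⟨w, hw⟩ := hc i i
  rw [hi] at hw
  have hge : 4 ≤ P i i := by
    by_contra hlt
    have hle : P i i ≤ 0 := by omega
    nlinarith [mul_self_nonneg (P i i)]
  refine ⟨hge, fun hle => ?_⟩
  have hd : P i i = 4 ∨ P i i = 8 := by omega
  have hall : ∀ b, b ≠ i → P i b = 2 ∨ P i b = -2 := by
    intro b hb
    refine (hcases b hb).resolve_right fun hbig => ?_
    have hb' : b ∈ univ.erase i := mem_erase.2 ⟨hb, mem_univ b⟩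
    have h1 := add_sum_erase _ (fun j => P i j * P i j) hb'
    have h2 := card_nsmul_le_sum ((univ.erase i).erase b) (fun j => P i j * P i j) 4
      fun j hj => h4 j (ne_of_mem_erase (mem_of_mem_erase hj))
    rw [card_erase_of_mem hb', card_erase_of_mem (mem_univ i), card_univ, hcard] at h2
    simp only [nsmul_eq_mul] at h2
    push_cast at h2
    rcases hd with h | h <;> rw [h] at hsum hsplit <;> omega
  refine ⟨?_, hall⟩
  have heq : ∑ j ∈ univ.erase i, P i j * P i j = 48 := by
    rw [sum_congr rfl fun j hj => show P i j * P i j = 4 by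
      rcases hall j (ne_of_mem_erase hj) with h | h <;> rw [h] <;> norm_num]
    rw [sum_const, card_erase_of_mem (mem_univ i), card_univ, hcard]
    norm_num
  rcases hd with h | h
  · exact h
  · rw [h] at hsum hsplit
    omega

theorem no_thirteen (h : Config a o P Q) {i : ι} (hi : a i = 2) (ha : ∀ b, b ≠ i → a b = 1)
    (hcard : Fintype.card ι = 13) : False := by
  obtain ⟨hP4, hPle⟩ := col_two h.projP h.congP hi ha hcard
  obtain ⟨hQ4, -⟩ := col_two h.projQ h.congQ hi ha hcard
  have hd := h.diag_le i
  rw [hi] at hd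
  obtain ⟨hPi, hall⟩ := hPle (by omega)
  -- a diagonal entry three forces the entry minus two
  have hthree : ∀ b, b ≠ i → P b b = 3 → P i b = -2 := by
    intro b hb hb3
    obtain ⟨t, htb, ht, htt, hta⟩ :=
      tvec h.projP (fun k => (h.kills k).1) h.congP h.norm (ha b hb) hb3
    have h0 : ∑ c, (t c * t c - t c * a c) = 0 := by rw [sum_sub_distrib, htt, hta, sub_self]
    rw [← add_sum_erase _ _ (mem_univ i)] at h0
    have he : (2 : ℤ) ∣ ∑ c ∈ univ.erase i, (t c * t c - t c * a c) :=
      dvd_sum fun c hc => by rw [ha c (ne_of_mem_erase hc), mul_one]; exact (sq_sub_self _).2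
    have hnn : 0 ≤ ∑ c ∈ univ.erase i, (t c * t c - t c * a c) :=
      sum_nonneg fun c hc => by rw [ha c (ne_of_mem_erase hc), mul_one]; exact (sq_sub_self _).1
    have h5 : t b * t b + t i * t i ≤ 4 := by
      rw [← htt, ← add_sum_erase _ _ (mem_univ b)]
      have := single_le_sum (f := fun c => t c * t c) (fun c _ => mul_self_nonneg (t c))
        (mem_erase.2 ⟨hb.symm, mem_univ i⟩)
      omega
    rw [htb] at h5
    have h1 : -1 ≤ t i := by nlinarith
    have h2 : t i ≤ 1 := by nlinarith
    have hti : t i = 0 := by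
      obtain ⟨w, hw⟩ := he
      rw [hi] at h0
      interval_cases (t i) <;> simp_all <;> omega
    have := ht i
    rw [hi, hti, h.projP.symm b i] at this
    omega
  set p := (univ.erase i).filter fun b => P i b = 2
  set m := (univ.erase i).filter fun b => ¬ P i b = 2
  have hpm : p.card + m.card = 12 := by
    rw [card_filter_add_card_filter_not, card_erase_of_mem (mem_univ i), card_univ, hcard]
  have hk := (h.kills i).1
  rw [← add_sum_erase _ _ (mem_univ i), hPi, hi,
    ← sum_filter_add_sum_filter_not _ (fun b => P i b = 2)] at hk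
  have hp : ∑ b ∈ p, P i b * a b = 2 * (p.card : ℤ) := by
    rw [sum_congr rfl fun b hb => show P i b * a b = 2 by
      rw [(mem_filter.1 hb).2, ha b (ne_of_mem_erase (mem_filter.1 hb).1), mul_one]]
    rw [sum_const, nsmul_eq_mul, mul_comm]
  have hm : ∑ b ∈ m, P i b * a b = -2 * (m.card : ℤ) := by
    rw [sum_congr rfl fun b hb => show P i b * a b = -2 by
      have hbi := ne_of_mem_erase (mem_filter.1 hb).1
      rw [(hall b hbi).resolve_left (mem_filter.1 hb).2, ha b hbi, mul_one]]
    rw [sum_const, nsmul_eq_mul, mul_comm]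
  rw [hp, hm] at hk
  have hp4 : p.card = 4 := by omega
  have hdiag : ∀ b, b ≠ i → 3 ≤ P b b ∧ (P i b = 2 → 7 ≤ P b b) := by
    intro b hb
    obtain ⟨w, hw⟩ := h.congP b b
    rw [ha b hb] at hw
    have h0 : 0 ≤ P b b := by
      have h1 := h.projP.sum_row_sq b
      have h2 : (0 : ℤ) ≤ ∑ j, P b j * P b j := sum_nonneg fun j _ => mul_self_nonneg _
      omega
    refine ⟨by omega, fun h2 => ?_⟩
    have h3 : P b b ≠ 3 := fun h3 => by
      have := hthree b hb h3
      omega
    omega
  have htr := h.trace
  rw [← add_sum_erase _ _ (mem_univ i), hPi,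
    ← sum_filter_add_sum_filter_not _ (fun b => P i b = 2)] at htr
  have hs1 := card_nsmul_le_sum p (fun b => P b b) 7 fun b hb =>
    (hdiag b (ne_of_mem_erase (mem_filter.1 hb).1)).2 (mem_filter.1 hb).2
  have hs2 := card_nsmul_le_sum m (fun b => P b b) 3 fun b hb =>
    (hdiag b (ne_of_mem_erase (mem_filter.1 hb).1)).1
  simp only [nsmul_eq_mul] at hs1 hs2
  have htr' : 4 + (∑ b ∈ p, P b b + ∑ b ∈ m, P b b) = 48 := by convert htr using 2
  omega

theorem no_ten (h : Config a o P Q) {i j : ι} (hij : i ≠ j) (hi : a i = 2) (hj : a j = 2)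
    (ha : ∀ b, b ≠ i → b ≠ j → a b = 1) (hoi : o ≠ i) (hoj : o ≠ j) : False := by
  have hao : a o = 1 := ha o hoi hoj
  -- both entries at the trivial place are equal and plus or minus two
  have hside : ∀ R : ι → ι → ℤ, IsProj R → (∀ k, ∑ b, R k b * a b = 0) →
      (∀ b c, (4 : ℤ) ∣ R b c + a b * a c) → R o o = 3 →
      R o i = R o j ∧ (R o i = 2 ∨ R o i = -2) ∧
      8 ≤ quad R (fun k => if k = i ∨ k = j then 1 else 0) := by
    intro R hR hk hc hRo
    obtain ⟨t, hto, ht, htt, hta⟩ := tvec hR hk hc h.norm hao hRo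
    have hle : ∀ c, c ≠ o → t c * t c ≤ 3 := fun c hc' => by
      have := single_le_sum (f := fun c => t c * t c) (fun c _ => mul_self_nonneg (t c))
        (mem_erase.2 ⟨hc', mem_univ c⟩)
      rw [← add_sum_erase _ _ (mem_univ o), hto] at htt
      omega
    have hb : ∀ c, c ≠ o → -1 ≤ t c ∧ t c ≤ 1 := fun c hc' =>
      ⟨by nlinarith [hle c hc'], by nlinarith [hle c hc']⟩
    have h0 : ∑ c, (t c * t c - t c * a c) = 0 := by rw [sum_sub_distrib, htt, hta, sub_self]
    rw [← add_sum_erase _ _ (mem_univ i),
      ← add_sum_erase _ _ (mem_erase.2 ⟨hij.symm, mem_univ j⟩)] at h0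
    have hone : ∀ c ∈ (univ.erase i).erase j, a c = 1 := fun c hc' =>
      ha c (ne_of_mem_erase (mem_of_mem_erase hc')) (ne_of_mem_erase hc')
    have he : (2 : ℤ) ∣ ∑ c ∈ (univ.erase i).erase j, (t c * t c - t c * a c) :=
      dvd_sum fun c hc' => by rw [hone c hc', mul_one]; exact (sq_sub_self _).2
    have hnn : 0 ≤ ∑ c ∈ (univ.erase i).erase j, (t c * t c - t c * a c) :=
      sum_nonneg fun c hc' => by rw [hone c hc', mul_one]; exact (sq_sub_self _).1
    obtain ⟨w, hw⟩ := he
    rw [hi, hj] at h0
    obtain ⟨i1, i2⟩ := hb i hoi.symm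
    obtain ⟨j1, j2⟩ := hb j hoj.symm
    have hteq : t i = t j ∧ (t i = 0 ∨ t i = 1) := by
      interval_cases (t i) <;> interval_cases (t j) <;> simp_all <;> omega
    have e1 := ht i
    have e2 := ht j
    rw [hi] at e1
    rw [hj] at e2
    have hval : R o i = 2 ∨ R o i = -2 := by omega
    refine ⟨by omega, hval, ?_⟩
    -- Cauchy at the sum of the two places
    set z : ι → ℤ := fun k => if k = i ∨ k = j then 1 else 0
    have hz : ∀ f : ι → ℤ, ∑ k, f k * z k = f i + f j := fun f => by
      rw [Fintype.sum_eq_add i j hij fun k hk => by simp [z, hk.1, hk.2]]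
      simp [z]
    have hq := hR.sixteen_quad z
    simp only [hz] at hq
    have hdiff : 0 ≤ ∑ k, (3 * (R k i + R k j) - (R o i + R o j) * R k o) *
        (3 * (R k i + R k j) - (R o i + R o j) * R k o) := sum_nonneg fun k _ => mul_self_nonneg _
    have hexp : ∑ k, (3 * (R k i + R k j) - (R o i + R o j) * R k o) *
        (3 * (R k i + R k j) - (R o i + R o j) * R k o) =
        9 * (16 * quad R z) - 6 * (R o i + R o j) * (16 * (R o i + R o j)) +
          (R o i + R o j) * (R o i + R o j) * (16 * 3) := by
      rw [hq, show (16 : ℤ) * (R o i + R o j) = 16 * R o i + 16 * R o j from mul_add _ _ _,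
        show (16 : ℤ) * 3 = 16 * R o o by rw [hRo], ← hR.idem o i, ← hR.idem o j, ← hR.idem o o]
      simp only [mul_sum, ← sum_add_distrib, ← sum_sub_distrib]
      refine sum_congr rfl fun k _ => ?_
      rw [hR.symm k o]
      ring
    have hsum : R o i + R o j = 4 ∨ R o i + R o j = -4 := by omega
    have h16 : (R o i + R o j) * (R o i + R o j) = 16 := by
      rcases hsum with e | e <;> rw [e] <;> norm_num
    have h96 : 6 * (R o i + R o j) * (16 * (R o i + R o j)) = 6 * 16 * 16 := by
      rw [show 6 * (R o i + R o j) * (16 * (R o i + R o j)) =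
        6 * 16 * ((R o i + R o j) * (R o i + R o j)) by ring, h16]
    rw [hexp, h96, h16] at hdiff
    -- the form is divisible by four
    obtain ⟨a1, ha1⟩ := hc i i
    obtain ⟨a2, ha2⟩ := hc i j
    obtain ⟨a3, ha3⟩ := hc j i
    obtain ⟨a4, ha4⟩ := hc j j
    rw [hi] at ha1 ha2 ha3
    rw [hj] at ha2 ha3 ha4
    rw [quad_pair R hij] at hdiff ⊢
    omega
  obtain ⟨hPe, hPv, hPz⟩ := hside P h.projP (fun k => (h.kills k).1) h.congP h.oneP
  obtain ⟨hQe, hQv, hQz⟩ := hside Q h.projQ (fun k => (h.kills k).2) h.congQ h.oneQ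
  set T : ι → ι → ℤ := fun b c => (if b = c then 16 else 0) - P b c - Q b c - a b * a c
  have hTz := h.projT.quad_nonneg fun k => if k = i ∨ k = j then 1 else 0
  have hT0 : quad T (fun k => if k = i ∨ k = j then 1 else 0) = 0 := by
    rw [quad_pair P hij] at hPz
    rw [quad_pair Q hij] at hQz
    rw [quad_pair T hij] at hTz ⊢
    simp [T, hij, hij.symm, hi, hj] at hTz ⊢
    omega
  have hk := h.projT.kills_of_quad_eq_zero hT0 o
  rw [Fintype.sum_eq_add i j hij fun k hk' => by
    rw [if_neg (show ¬(k = i ∨ k = j) by tauto), mul_zero]] at hk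
  simp [T, hoi, hoj, hi, hj, hao] at hk
  omega

/-- Changing the signs of the characters. -/
theorem IsProj.signs {R : ι → ι → ℤ} (h : IsProj R) (s : ι → ℤ) (hs : ∀ i, s i * s i = 1) :
    IsProj fun i j => s i * s j * R i j where
  symm i j := by rw [h.symm i j]; ring
  idem i j := by
    rw [show 16 * (s i * s j * R i j) = s i * s j * (16 * R i j) by ring, ← h.idem, mul_sum]
    refine sum_congr rfl fun k _ => ?_
    calc s i * s k * R i k * (s k * s j * R k j)
        = (s k * s k) * (s i * s j * (R i k * R k j)) := by ring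
      _ = _ := by rw [hs, one_mul]

/-- **The column has sixteen entries.** -/
theorem card_eq_sixteen (h : Config a o P Q) (hne : ∀ i, a i ≠ 0) (hao : a o * a o = 1)
    (hcard : 9 ≤ Fintype.card ι) : Fintype.card ι = 16 := by
  obtain ⟨hall, hc⟩ := (profile a hne h.norm).resolve_left (by omega)
  set F := univ.filter fun i => a i * a i = 4
  set s : ι → ℤ := fun i => if 0 < a i then 1 else -1
  have hs : ∀ i, s i * s i = 1 := fun i => by simp only [s]; split_ifs <;> rfl
  set b : ι → ℤ := fun i => s i * a i
  have hb : ∀ i, b i * b i = a i * a i := fun i => by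
    calc b i * b i = (s i * s i) * (a i * a i) := by simp only [b]; ring
      _ = _ := by rw [hs, one_mul]
  have hpos : ∀ i, 0 < b i := fun i => by
    simp only [b, s]
    rcases lt_or_gt_of_ne (hne i) with hl | hl
    · rw [if_neg (by omega)]; omega
    · rw [if_pos hl]; omega
  have hbv : ∀ i, (i ∈ F → b i = 2) ∧ (i ∉ F → b i = 1) := fun i => by
    have := hpos i
    have e := hb i
    rcases hall i with h1 | h4
    · refine ⟨fun hm => ?_, fun _ => by nlinarith⟩
      have := (mem_filter.1 hm).2
      omega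
    · exact ⟨fun _ => by nlinarith, fun hm => absurd (mem_filter.2 ⟨mem_univ i, h4⟩) hm⟩
  have hoF : o ∉ F := fun hm => by
    have := (mem_filter.1 hm).2
    omega
  have hcfg : Config b o (fun i j => s i * s j * P i j) (fun i j => s i * s j * Q i j) :=
    { projP := h.projP.signs s hs
      projQ := h.projQ.signs s hs
      projT := by
        convert h.projT.signs s hs using 3 with i j
        by_cases hij : i = j
        · subst hij
          simp only [if_true, b]
          linear_combination -16 * hs i
        · simp only [if_neg hij, b]; ring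
      congP := fun i j => by
        rw [show s i * s j * P i j + b i * b j = s i * s j * (P i j + a i * a j) by
          simp only [b]; ring]
        exact Dvd.dvd.mul_left (h.congP i j) _
      congQ := fun i j => by
        rw [show s i * s j * Q i j + b i * b j = s i * s j * (Q i j + a i * a j) by
          simp only [b]; ring]
        exact Dvd.dvd.mul_left (h.congQ i j) _
      norm := by simp only [hb]; exact h.norm
      trace := by simp only [hs, one_mul]; exact h.trace
      oneP := by simp only [hs, one_mul]; exact h.oneP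
      oneQ := by simp only [hs, one_mul]; exact h.oneQ }
  rcases Nat.lt_or_ge F.card 3 with hF | hF
  · interval_cases hF' : F.card
    · omega
    · obtain ⟨i, hi⟩ := card_eq_one.1 hF'
      refine absurd (no_thirteen hcfg ((hbv i).1 (by simp [hi]))
        (fun c hc' => (hbv c).2 (by simp [hi, hc'])) (by omega)) id
    · obtain ⟨i, j, hij, hi⟩ := card_eq_two.1 hF'
      refine absurd (no_ten hcfg hij ((hbv i).1 (by simp [hi])) ((hbv j).1 (by simp [hi]))
        (fun c h1 h2 => (hbv c).2 (by simp [hi, h1, h2])) (fun e => hoF (by simp [hi, e]))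
        (fun e => hoF (by simp [hi, e]))) id
  · omega

end CfsgLib.E16
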