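import Cfsg.Agent.BlocksB.E16Nine.Sections
import Cfsg.Agent.BlocksB.E16Nine.Comb
import Cfsg.Agent.BlocksB.GapOneElementary
import Cfsg.Agent.BlocksB.ChainCount

/-!
# Groups with inertial quotient of order three fixing a four-group

The principal `2`-block of a group with elementary abelian Sylow subgroup `W × W'`, whose
normalizer fixes `W` pointwise and is free and transitive on `W'`, has rank three, and the
proportion of elements of odd order is three sixteenths.
-/

set_option autoImplicit false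
set_option linter.style.haveILetI false
set_option linter.unusedSectionVars false

namespace CfsgLib.E16

open Cfsg Finset CfsgLib.Block CfsgLib.Block.Chr CfsgLib.Char CfsgLib.BlockB
open scoped ComplexConjugate
open scoped Classical

universe u

variable {G : Type u} [Group G] [Fintype G]

local notation "C{" x "}" => Subgroup.centralizer ({x} : Set G)
local notation "N(" V ")" => Subgroup.normalizer (SetLike.coe V)

theorem IsE16.le_centralizer {V : Subgroup G} (h : IsE16 V) {x : G} (hx : x ∈ V) : V ≤ C{x} :=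
  fun v hv => Subgroup.mem_centralizer_singleton_iff.2 (h.comm v hv x hx)

theorem IsE16.subgroupOf {V : Subgroup G} (h : IsE16 V) {H : Subgroup G} (hVH : V ≤ H) :
    IsE16 (V.subgroupOf H) where
  card := by rw [Nat.card_congr (Subgroup.subgroupOfEquivOfLe hVH).toEquiv, h.card]
  sq := fun x hx => Subtype.ext (h.sq _ hx)
  odd_index := fun hd => h.odd_index
    (hd.trans (Dvd.intro _ (Subgroup.relIndex_mul_index hVH)))

theorem normalizer_coe {V H : Subgroup G} (hVH : V ≤ H) {n : H}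
    (hn : n ∈ Subgroup.normalizer ((V.subgroupOf H : Subgroup H) : Set H)) : (n : G) ∈ N(V) := by
  rw [Subgroup.mem_normalizer_iff]
  intro v
  constructor
  · intro hv
    exact (Subgroup.mem_normalizer_iff.1 hn ⟨v, hVH hv⟩).1 hv
  · intro hv
    have hvH : v ∈ H := by
      have h1 := H.mul_mem (H.mul_mem (H.inv_mem n.2) (hVH hv)) n.2
      simpa [mul_assoc] using h1
    exact (Subgroup.mem_normalizer_iff.1 hn ⟨v, hvH⟩).2 hv

theorem coe_normalizer {V H : Subgroup G} {n : H} (hn : (n : G) ∈ N(V)) :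
    n ∈ Subgroup.normalizer ((V.subgroupOf H : Subgroup H) : Set H) :=
  Subgroup.mem_normalizer_iff.2 fun v => Subgroup.mem_normalizer_iff.1 hn (v : G)

/-- An element whose stabilizer in the normalizer centralizes has a centralizer with a normal
complement. -/
theorem IsE16.exists_complement {V : Subgroup G} (h : IsE16 V) {x : G} (hx : x ∈ V)
    (hC : ∀ n ∈ N(V), n * x * n⁻¹ = x → ∀ v ∈ V, n * v * n⁻¹ = v) :
    ∃ K : Subgroup ↥C{x}, K.Normal ∧ ¬ 2 ∣ Nat.card K ∧ K.index = 16 := by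
  haveI : Fact (Nat.Prime 2) := ⟨Nat.prime_two⟩
  have h' := h.subgroupOf (h.le_centralizer hx)
  have hP : Subgroup.normalizer ((h'.sylow : Subgroup ↥C{x}) : Set ↥C{x}) ≤
      Subgroup.centralizer ((h'.sylow : Subgroup ↥C{x}) : Set ↥C{x}) := by
    intro n hn
    rw [Subgroup.mem_centralizer_iff]
    intro v hv
    have h1 := hC n (normalizer_coe (h.le_centralizer hx) hn)
      (mul_inv_eq_iff_eq_mul.2 (Subgroup.mem_centralizer_singleton_iff.1 n.2)) v hv
    exact Subtype.ext (mul_inv_eq_iff_eq_mul.1 h1).symm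
  refine ⟨(MonoidHom.transferSylow h'.sylow hP).ker, inferInstance,
    MonoidHom.not_dvd_card_ker_transferSylow _ hP, ?_⟩
  rw [(MonoidHom.ker_transferSylow_isComplement' _ hP).symm.index_eq_card]
  exact h'.card

theorem blockRank_centralizer_top {M : Ideal AlgInt} [M.IsPrime] {x : G} (hx : C{x} = ⊤) :
    blockRank 2 (principalBlock M ↥C{x}) = blockRank 2 (principalBlock M G) := by
  let e : ↥C{x} ≃* G := (MulEquiv.subgroupCongr hx).trans Subgroup.topEquiv
  have h1 : principalBlock M ↥C{x} = irrComp e '' principalBlock M G := by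
    show blockOf M (irrComp e (oneIrr G) : ↥C{x} → ℂ) = _
    exact blockOf_irrComp e (oneIrr G)
  rw [h1, ChainCount.blockRank_irrComp]

theorem ratio_centralizer_top {x : G} (hx : C{x} = ⊤) : ratio ↥C{x} = ratio G :=
  ratio_congr ((MulEquiv.subgroupCongr hx).trans Subgroup.topEquiv)

/-- The decomposition `V = W × W'`. -/
structure IsSplit (V W W' : Subgroup G) : Prop where
  e16 : IsE16 V
  le : W ≤ V
  le' : W' ≤ V
  card : Nat.card W = 4
  card' : Nat.card W' = 4
  disj : W ⊓ W' = ⊥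
  stable : ∀ n ∈ N(V), ∀ w ∈ W, n * w * n⁻¹ ∈ W
  stable' : ∀ n ∈ N(V), ∀ t ∈ W', n * t * n⁻¹ ∈ W'

variable {V W W' : Subgroup G}

theorem IsSplit.unique (h : IsSplit V W W') {w w₂ t t₂ : G} (hw : w ∈ W) (hw₂ : w₂ ∈ W)
    (ht : t ∈ W') (ht₂ : t₂ ∈ W') (he : w * t = w₂ * t₂) : w = w₂ ∧ t = t₂ := by
  have h1 : w₂⁻¹ * w = t₂ * t⁻¹ := by
    apply mul_left_cancel (a := w₂)
    apply mul_right_cancel (b := t)
    simp [mul_assoc, he]
  have h2 : w₂⁻¹ * w ∈ W ⊓ W' :=
    ⟨W.mul_mem (W.inv_mem hw₂) hw, h1 ▸ W'.mul_mem ht₂ (W'.inv_mem ht)⟩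
  rw [h.disj, Subgroup.mem_bot] at h2
  obtain rfl : w = w₂ := (inv_mul_eq_one.1 h2).symm
  exact ⟨rfl, mul_left_cancel he⟩

theorem IsSplit.exists_decomp (h : IsSplit V W W') {v : G} (hv : v ∈ V) :
    ∃ w ∈ W, ∃ t ∈ W', w * t = v := by
  haveI : Fintype (W × W') := Fintype.ofFinite _
  let f : W × W' → V := fun p => ⟨(p.1 : G) * p.2, mul_mem (h.le p.1.2) (h.le' p.2.2)⟩
  have hinj : Function.Injective f := by
    rintro ⟨w, t⟩ ⟨w₂, t₂⟩ he
    obtain ⟨e1, e2⟩ := h.unique w.2 w₂.2 t.2 t₂.2 (congrArg Subtype.val he)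
    rw [Subtype.ext e1, Subtype.ext e2]
  have hsur : Function.Surjective f := by
    refine ((Fintype.bijective_iff_injective_and_card f).2 ⟨hinj, ?_⟩).surjective
    rw [← Nat.card_eq_fintype_card, ← Nat.card_eq_fintype_card, Nat.card_prod, h.card, h.card',
      h.e16.card]
  obtain ⟨⟨w, t⟩, he⟩ := hsur ⟨v, hv⟩
  exact ⟨w, w.2, t, t.2, congrArg Subtype.val he⟩

theorem IsSplit.conj_eq (h : IsSplit V W W') {n w w₂ t t₂ : G} (hn : n ∈ N(V)) (hw : w ∈ W)
    (hw₂ : w₂ ∈ W) (ht : t ∈ W') (ht₂ : t₂ ∈ W') (he : n * (w * t) * n⁻¹ = w₂ * t₂) :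
    n * w * n⁻¹ = w₂ ∧ n * t * n⁻¹ = t₂ :=
  h.unique (h.stable n hn w hw) hw₂ (h.stable' n hn t ht) ht₂ (by rw [← he]; group)

/-- The normalizer fixes `W` and is free and transitive on `W'`. -/
structure IsType (V W W' : Subgroup G) : Prop extends IsSplit V W W' where
  fix : ∀ n ∈ N(V), ∀ w ∈ W, n * w * n⁻¹ = w
  free : ∀ n ∈ N(V), ∀ t ∈ W', t ≠ 1 → n * t * n⁻¹ = t → ∀ v ∈ V, n * v * n⁻¹ = v
  trans : ∀ t ∈ W', t ≠ 1 → ∀ t' ∈ W', t' ≠ 1 → ∃ n ∈ N(V), n * t * n⁻¹ = t'

theorem IsType.centralizer (h : IsType V W W') {w : G} (hw : w ∈ W) :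
    IsType (V.subgroupOf C{w}) (W.subgroupOf C{w}) (W'.subgroupOf C{w}) := by
  have hV := h.e16.le_centralizer (h.le hw)
  refine
    { e16 := h.e16.subgroupOf hV
      le := fun x hx => h.le hx
      le' := fun x hx => h.le' hx
      card := by
        rw [Nat.card_congr (Subgroup.subgroupOfEquivOfLe (h.le.trans hV)).toEquiv, h.card]
      card' := by
        rw [Nat.card_congr (Subgroup.subgroupOfEquivOfLe (h.le'.trans hV)).toEquiv, h.card']
      disj := ?_
      stable := fun n hn x hx => h.stable n (normalizer_coe hV hn) _ hx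
      stable' := fun n hn x hx => h.stable' n (normalizer_coe hV hn) _ hx
      fix := fun n hn x hx => Subtype.ext (h.fix n (normalizer_coe hV hn) _ hx)
      free := fun n hn t ht ht1 he v hv => Subtype.ext (h.free n (normalizer_coe hV hn) _ ht
        (fun e => ht1 (Subtype.ext e)) (congrArg Subtype.val he) _ hv)
      trans := fun t ht ht1 t' ht' ht1' => ?_ }
  · rw [eq_bot_iff]
    rintro x ⟨hx, hx'⟩
    have hx2 : (x : G) ∈ W ⊓ W' := ⟨hx, hx'⟩
    rw [h.disj, Subgroup.mem_bot] at hx2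
    exact Subgroup.mem_bot.2 (Subtype.ext hx2)
  · obtain ⟨n, hn, he⟩ := h.trans _ ht (fun e => ht1 (Subtype.ext e)) _ ht'
      (fun e => ht1' (Subtype.ext e))
    have hnw : n ∈ C{w} :=
      Subgroup.mem_centralizer_singleton_iff.2 (mul_inv_eq_iff_eq_mul.1 (h.fix n hn w hw))
    exact ⟨⟨n, hnw⟩, coe_normalizer hn, Subtype.ext he⟩

variable {M : Ideal AlgInt} [M.IsPrime]

/-- A free element gives a section of norm one. -/
theorem IsE16.free_section (hV : IsE16 V) (hM : IsPModular 2 M) [Fintype (IrrCharacter G)] {x : G}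
    (hx : x ∈ V) (hC : ∀ n ∈ N(V), n * x * n⁻¹ = x → ∀ v ∈ V, n * v * n⁻¹ = v) :
    ∃ a : ↥(principalBlock M G) → ℤ, (∀ χ, (χ.1 : G → ℂ) x = (a χ : ℂ)) ∧
      (∀ χ ψ : ↥(principalBlock M G), 16 * sect x χ.1 ψ.1 = (a χ : ℂ) * (a ψ : ℂ)) ∧
      (∀ χ, a χ ≠ 0) ∧ a ⟨oneIrr G, oneIrr_mem_principalBlock⟩ = 1 ∧
      ∑ χ, a χ * a χ = 16 ∧ blockRank 2 (principalBlock M ↥C{x}) = 1 ∧
      ratio ↥C{x} = 1 / 16 := by
  obtain ⟨k, hk⟩ := hV.exists_order hx
  obtain ⟨K, hKn, hK, hidx⟩ := hV.exists_complement hx hC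
  choose a ha using fun χ : ↥(principalBlock M G) => int_of_sq_eq_one χ.1 (hV.sq x hx)
  have hsec : ∀ χ ψ : ↥(principalBlock M G),
      16 * sect x χ.1 ψ.1 = (a χ : ℂ) * (a ψ : ℂ) := fun χ ψ => by
    rw [sect_nilpotent hM hk K hK hidx χ ψ, ha, ha, map_intCast]
  set o : ↥(principalBlock M G) := ⟨oneIrr G, oneIrr_mem_principalBlock⟩
  have ho : a o = 1 := by
    have h := ha o
    rw [oneIrr_apply] at h
    exact_mod_cast h.symm
  have hidem := sect_idem (M := M) hM hk o o
  have hsq : ∀ χ ψ : ↥(principalBlock M G), sect x χ.1 ψ.1 = (a χ : ℂ) * (a ψ : ℂ) / 16 :=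
    fun χ ψ => by rw [← hsec]; ring
  have hnorm : ((∑ χ, a χ * a χ : ℤ) : ℂ) = 16 := by
    simp only [hsq, ho] at hidem
    push_cast at hidem ⊢
    rw [sum_congr rfl fun ψ _ => show 1 * (a ψ : ℂ) / 16 * ((a ψ : ℂ) * 1 / 16) =
      (1 / 256) * ((a ψ : ℂ) * (a ψ : ℂ)) by ring, ← mul_sum] at hidem
    linear_combination 256 * hidem
  refine ⟨a, ha, hsec, fun χ h0 => ?_, ho, by exact_mod_cast hnorm, ?_, ?_⟩
  · exact hV.apply_ne_zero hM hx χ.2 (by rw [ha, h0, Int.cast_zero])
  · have h1 := sum_sect_diag (M := M) hM hk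
    simp only [hsq, ← sum_div] at h1
    push_cast at hnorm
    rw [hnorm] at h1
    norm_num at h1
    exact_mod_cast h1.symm
  · rw [← sect_one, hsq o o, ho]
    norm_num

/-- **The groups of this type.** -/
theorem type_counts (hM : IsPModular 2 M) : ∀ (n : ℕ) (X : Type u) [Group X] [Fintype X]
    (V W W' : Subgroup X), Nat.card X = n → IsType V W W' →
    blockRank 2 (principalBlock M X) = 3 ∧ ratio X = 3 / 16 := by
  intro n
  induction n using Nat.strong_induction_on with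
  | _ n ih =>
  intro X _ _ V W W' hn h
  haveI : Fact (Nat.Prime 2) := ⟨Nat.prime_two⟩
  letI := irrFintype (G := X)
  set l := blockRank 2 (principalBlock M X)
  obtain ⟨t₀, ht₀, ht₀1⟩ : ∃ t ∈ W', t ≠ 1 := by
    by_contra hne
    push Not at hne
    have := h.card'
    rw [show W' = ⊥ from (Subgroup.eq_bot_iff_forall _).2 hne, Subgroup.card_bot] at this
    omega
  set F := univ.filter fun w : X => w ∈ W
  have hF : F.card = 4 := by
    rw [← Fintype.card_subtype, ← Nat.card_eq_fintype_card]; exact h.card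
  have hFm : ∀ {w : X}, w ∈ F ↔ w ∈ W := fun {w} => by simp [F]
  have hdisj : Disjoint F (F.image fun w => w * t₀) := by
    rw [Finset.disjoint_left]
    intro w hw hw'
    obtain ⟨w₂, hw₂, he⟩ := mem_image.1 hw'
    exact ht₀1 (h.unique (hFm.1 hw₂) (hFm.1 hw) ht₀ W'.one_mem (by rw [mul_one]; exact he)).2
  have hR : IsReps V (F ∪ F.image fun w => w * t₀) := by
    refine ⟨fun r hr => ?_, fun v hv => ?_, fun r hr r' hr' g hg => ?_⟩
    · rcases mem_union.1 hr with hr | hr
      · exact h.le (hFm.1 hr)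
      · obtain ⟨w, hw, rfl⟩ := mem_image.1 hr
        exact mul_mem (h.le (hFm.1 hw)) (h.le' ht₀)
    · obtain ⟨w, hw, t, ht, rfl⟩ := h.exists_decomp hv
      by_cases ht1 : t = 1
      · exact ⟨w, mem_union_left _ (hFm.2 hw), 1, by rw [ht1]; simp⟩
      · obtain ⟨m, hm, he⟩ := h.trans t₀ ht₀ ht₀1 t ht ht1
        refine ⟨w * t₀, mem_union_right _ (mem_image_of_mem _ (hFm.2 hw)), m, ?_⟩
        rw [show m * (w * t₀) * m⁻¹ = (m * w * m⁻¹) * (m * t₀ * m⁻¹) by group, he,
          h.fix m hm w hw]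
    · obtain ⟨w, hw, t, ht, rfl⟩ : ∃ w ∈ W, ∃ t, (t = 1 ∨ t = t₀) ∧ w * t = r := by
        rcases mem_union.1 hr with hr | hr
        · exact ⟨r, hFm.1 hr, 1, Or.inl rfl, mul_one r⟩
        · obtain ⟨w, hw, rfl⟩ := mem_image.1 hr
          exact ⟨w, hFm.1 hw, t₀, Or.inr rfl, rfl⟩
      obtain ⟨w₂, hw₂, t₂, ht₂, rfl⟩ : ∃ w ∈ W, ∃ t, (t = 1 ∨ t = t₀) ∧ w * t = r' := by
        rcases mem_union.1 hr' with hr | hr
        · exact ⟨r', hFm.1 hr, 1, Or.inl rfl, mul_one r'⟩
        · obtain ⟨w, hw, rfl⟩ := mem_image.1 hr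
          exact ⟨w, hFm.1 hw, t₀, Or.inr rfl, rfl⟩
      have htW : t ∈ W' := by rcases ht with rfl | rfl <;> [exact W'.one_mem; exact ht₀]
      have htW₂ : t₂ ∈ W' := by rcases ht₂ with rfl | rfl <;> [exact W'.one_mem; exact ht₀]
      obtain ⟨m, hm, he⟩ := h.e16.fusion (mul_mem (h.le hw) (h.le' htW))
        (g := g) (by rw [hg]; exact mul_mem (h.le hw₂) (h.le' htW₂))
      rw [hg] at he
      obtain ⟨e1, e2⟩ := h.conj_eq hm hw hw₂ htW htW₂ he
      rw [h.fix m hm w hw] at e1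
      subst e1
      rcases ht with rfl | rfl <;> rcases ht₂ with rfl | rfl
      · rfl
      · exact absurd (by simpa using e2.symm) ht₀1
      · exact absurd (conj_eq_one_iff.1 e2) ht₀1
      · rfl
  -- the free classes
  have hfree : ∀ w ∈ W, ∀ m ∈ Subgroup.normalizer (V : Set X),
      m * (w * t₀) * m⁻¹ = w * t₀ → ∀ v ∈ V, m * v * m⁻¹ = v := fun w hw m hm he =>
    h.free m hm t₀ ht₀ ht₀1 (h.conj_eq hm hw hw ht₀ ht₀ he).2
  obtain ⟨a, -, -, hne, -, hnorm, -, -⟩ := h.e16.free_section (M := M) hM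
    (mul_mem (h.le W.one_mem) (h.le' ht₀)) (hfree 1 W.one_mem)
  -- the central elements of `W`
  set Z := F.filter fun w => Subgroup.centralizer ({w} : Set X) = ⊤
  have hZcard : Z.card ∣ 4 ∧ 1 ≤ Z.card := by
    refine ⟨?_, card_pos.2 ⟨1, mem_filter.2 ⟨hFm.2 W.one_mem, CfsgLib.GapOne.centralizer_one⟩⟩⟩
    have hc : Z.card = Nat.card (W ⊓ Subgroup.center X : Subgroup X) := by
      rw [Nat.card_eq_fintype_card, Fintype.card_subtype]
      congr 1
      ext w
      simp only [Z, F, mem_filter, mem_univ, true_and, Subgroup.mem_inf,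
        Subgroup.centralizer_eq_top_iff_subset, Set.singleton_subset_iff, SetLike.mem_coe]
    rw [hc, ← h.card]
    exact Subgroup.card_dvd_of_le inf_le_left
  have hother : ∀ w ∈ F, w ∉ Z →
      blockRank 2 (principalBlock M ↥(Subgroup.centralizer ({w} : Set X))) = 3 ∧
      ratio ↥(Subgroup.centralizer ({w} : Set X)) = 3 / 16 := by
    intro w hw hwZ
    refine ih (Nat.card ↥(Subgroup.centralizer ({w} : Set X))) ?_ _ _ _ _ rfl
      (h.centralizer (hFm.1 hw))
    rw [← hn]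
    refine lt_of_le_of_ne (Subgroup.card_le_card_group _) fun he => hwZ ?_
    exact mem_filter.2 ⟨hw, Subgroup.eq_top_of_card_eq _ he⟩
  -- the two totals
  have htot : ∀ φ : X → ℂ, ∑ r ∈ F ∪ F.image (fun w => w * t₀), φ r =
      ∑ w ∈ Z, φ w + ∑ w ∈ F \ Z, φ w + ∑ w ∈ F, φ (w * t₀) := fun φ => by
    rw [sum_union hdisj, sum_image fun x _ y _ e => mul_right_cancel e,
      add_comm (∑ w ∈ Z, φ w), sum_sdiff (filter_subset _ F)]
  have hdiff : (F \ Z).card = 4 - Z.card := by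
    rw [card_sdiff_of_subset (filter_subset _ F), hF]
  have hr : ratio X = 3 / 16 := by
    have h1 := h.e16.sum_sect hR (oneIrr X) (oneIrr X)
    simp only [sect_one, if_pos] at h1
    rw [htot, sum_congr rfl fun w hw => ratio_centralizer_top (mem_filter.1 hw).2,
      sum_congr rfl fun w hw => (hother w (mem_sdiff.1 hw).1 (mem_sdiff.1 hw).2).2,
      sum_congr rfl fun w hw => show ratio ↥(Subgroup.centralizer ({w * t₀} : Set X)) = 1 / 16 by
        obtain ⟨a, -, -, -, -, -, -, hr⟩ := h.e16.free_section (M := M) hM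
          (mul_mem (h.le (hFm.1 hw)) (h.le' ht₀)) (hfree w (hFm.1 hw))
        exact hr,
      sum_const, sum_const, sum_const, hdiff, hF, nsmul_eq_mul, nsmul_eq_mul, nsmul_eq_mul,
      Nat.cast_sub (hF ▸ card_le_card (filter_subset _ F))] at h1
    have hZ0 : (Z.card : ℂ) ≠ 0 := Nat.cast_ne_zero.2 (by omega)
    refine mul_left_cancel₀ hZ0 ?_
    push_cast at h1
    linear_combination h1
  refine ⟨?_, hr⟩
  have hk : Nat.card ↥(principalBlock M X) = Z.card * l + (4 - Z.card) * 3 + 4 := by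
    have h1 : ∀ χ : ↥(principalBlock M X),
        ∑ r ∈ F ∪ F.image (fun w => w * t₀), sect r χ.1 χ.1 = 1 := fun χ => by
      rw [h.e16.sum_sect hR, if_pos rfl]
    have h2 : (Nat.card ↥(principalBlock M X) : ℂ) = ∑ r ∈ F ∪ F.image (fun w => w * t₀),
        (blockRank 2 (principalBlock M ↥(Subgroup.centralizer ({r} : Set X))) : ℂ) := by
      calc (Nat.card ↥(principalBlock M X) : ℂ)
          = ∑ χ : ↥(principalBlock M X), (1 : ℂ) := by
            rw [sum_const, card_univ, nsmul_eq_mul, mul_one, Nat.card_eq_fintype_card]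
        _ = ∑ χ : ↥(principalBlock M X),
            ∑ r ∈ F ∪ F.image (fun w => w * t₀), sect r χ.1 χ.1 :=
            sum_congr rfl fun χ _ => (h1 χ).symm
        _ = _ := by
            rw [sum_comm]
            refine sum_congr rfl fun r hr => ?_
            obtain ⟨k, hk⟩ := h.e16.exists_order (hR.mem r hr)
            exact sum_sect_diag hM hk
    rw [htot, sum_congr rfl fun w hw => congrArg Nat.cast
        (blockRank_centralizer_top (M := M) (mem_filter.1 hw).2),
      sum_congr rfl fun w hw => congrArg Nat.cast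
        (hother w (mem_sdiff.1 hw).1 (mem_sdiff.1 hw).2).1,
      sum_congr rfl fun w hw => congrArg Nat.cast (show
          blockRank 2 (principalBlock M ↥(Subgroup.centralizer ({w * t₀} : Set X))) = 1 by
        obtain ⟨a, -, -, -, -, -, hl, -⟩ := h.e16.free_section (M := M) hM
          (mul_mem (h.le (hFm.1 hw)) (h.le' ht₀)) (hfree w (hFm.1 hw))
        exact hl),
      sum_const, sum_const, sum_const, hdiff, hF, ← Nat.cast_smul_eq_nsmul ℂ,
      ← Nat.cast_smul_eq_nsmul ℂ, ← Nat.cast_smul_eq_nsmul ℂ] at h2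
    simp only [smul_eq_mul, ← Nat.cast_mul, ← Nat.cast_add, Nat.cast_inj] at h2
    omega
  have hl1 : 1 ≤ l := GapOneElementary.one_le_blockRank hM isPBlock_principalBlock
  have hne1 : l ≠ 1 := blockRank_ne_one hM (a := 3) (b := 16) (by exact_mod_cast hr) (by norm_num)
    (by norm_num)
  have hZ4 : Z.card = 1 ∨ Z.card = 2 ∨ Z.card = 4 := by
    have := Nat.le_of_dvd (by norm_num) hZcard.1
    obtain ⟨h4, h1⟩ := hZcard
    interval_cases hh : Z.card <;> simp_all
  rw [Nat.card_eq_fintype_card] at hk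
  have hge : 12 ≤ Z.card * l + (4 - Z.card) * 3 + 4 := by
    rcases hZ4 with e | e | e <;> rw [e] <;> omega
  obtain hsmall | ⟨-, hprof⟩ := profile a hne hnorm
  · omega
  · rcases hZ4 with e | e | e <;> rw [e] at hk <;> omega

end CfsgLib.E16
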