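import Mathlib

/-!
# Nine automorphisms of the elementary abelian group of order sixteen

Such a group of automorphisms stabilizes two complementary four-groups and permutes the pairs of
their nontrivial elements transitively.
-/

set_option autoImplicit false

namespace CfsgLib.E16

open Finset
open scoped Classical

universe u

variable {V : Type u} [Group V] [Finite V]

/-- The elements fixed by a set of automorphisms. -/
def fixSub (S : Set (MulAut V)) : Subgroup V where
  carrier := {v | ∀ e ∈ S, e v = v}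
  one_mem' := fun e _ => map_one e
  mul_mem' := fun ha hb e he => by rw [map_mul, ha e he, hb e he]
  inv_mem' := fun ha e he => by rw [map_inv, ha e he]

theorem mem_fixSub {S : Set (MulAut V)} {v : V} : v ∈ fixSub S ↔ ∀ e ∈ S, e v = v := Iff.rfl

theorem stable_mod_three (E : Subgroup (MulAut V)) (hE : Nat.card E = 9) (U : Subgroup V)
    (hU : ∀ e ∈ E, ∀ u ∈ U, e u ∈ U) :
    Nat.card U ≡ Nat.card (U ⊓ fixSub (E : Set (MulAut V)) : Subgroup V) [MOD 3] := by
  haveI : Fact (Nat.Prime 3) := ⟨Nat.prime_three⟩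
  letI : MulAction E U :=
    { smul := fun e u => ⟨(e : MulAut V) (u : V), hU e.1 e.2 u u.2⟩
      one_smul := fun _ => Subtype.ext rfl
      mul_smul := fun _ _ _ => Subtype.ext rfl }
  have h := (IsPGroup.of_card (p := 3) (G := E) (n := 2) (by rw [hE]; norm_num)
    ).card_modEq_card_fixedPoints U
  refine h.trans (Eq.subst (motive := fun x => Nat.card _ ≡ x [MOD 3]) (Nat.card_congr ?_) rfl)
  exact
    { toFun := fun u => ⟨u.1.1, u.1.2, fun e he => congrArg Subtype.val (u.2 ⟨e, he⟩)⟩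
      invFun := fun u => ⟨⟨u.1, u.2.1⟩, fun e => Subtype.ext (u.2.2 e.1 e.2)⟩
      left_inv := fun _ => rfl
      right_inv := fun _ => rfl }

/-- The result. -/
structure Pair (E : Subgroup (MulAut V)) (A B : Subgroup V) : Prop where
  cardA : Nat.card A = 4
  cardB : Nat.card B = 4
  disj : A ⊓ B = ⊥
  stableA : ∀ e ∈ E, ∀ a ∈ A, e a ∈ A
  stableB : ∀ e ∈ E, ∀ b ∈ B, e b ∈ B
  fixA : ∀ e ∈ E, ∀ a ∈ A, a ≠ 1 → e a = a → ∀ a' ∈ A, e a' = a'
  fixB : ∀ e ∈ E, ∀ b ∈ B, b ≠ 1 → e b = b → ∀ b' ∈ B, e b' = b'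
  trans : ∀ a ∈ A, a ≠ 1 → ∀ b ∈ B, b ≠ 1 → ∀ a' ∈ A, a' ≠ 1 → ∀ b' ∈ B, b' ≠ 1 →
    ∃ e ∈ E, e a = a' ∧ e b = b'

theorem exists_pair (hV : Nat.card V = 16) (hc : ∀ a b : V, a * b = b * a) (hsq : ∀ a : V, a * a = 1)
    (E : Subgroup (MulAut V)) (hE : Nat.card E = 9) : ∃ A B : Subgroup V, Pair E A B := by
  haveI : Fintype V := Fintype.ofFinite V
  haveI : Fintype E := Fintype.ofFinite E
  haveI : Fact (Nat.Prime 3) := ⟨Nat.prime_three⟩
  have hcomm : ∀ x y : E, x * y = y * x :=
    IsPGroup.commutative_of_card_eq_prime_sq (p := 3) (by rw [hE]; norm_num)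
  set F := fixSub (E : Set (MulAut V))
  have hdvd : ∀ U : Subgroup V, Nat.card U ∈ ({1, 2, 4, 8, 16} : Finset ℕ) := fun U => by
    have h := U.card_subgroup_dvd_card
    rw [hV, show 16 = 2 ^ 4 by norm_num] at h
    obtain ⟨k, hk, he⟩ := (Nat.dvd_prime_pow Nat.prime_two).1 h
    rw [he]
    interval_cases k <;> decide
  have hne1 : ∀ e : E, e ≠ 1 → ∃ v : V, (e : MulAut V) v ≠ v := fun e he => by
    by_contra hne
    push Not at hne
    exact he (Subtype.ext (MulEquiv.ext hne))
  have hpow : ∀ e : E, e ^ 9 = 1 := fun e => hE ▸ pow_card_eq_one'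
  -- the fixed subgroup of a nontrivial element
  have hfix : ∀ e : E, e ≠ 1 → (Nat.card (fixSub ({(e : MulAut V)} : Set (MulAut V))) = 1 ∨
      Nat.card (fixSub ({(e : MulAut V)} : Set (MulAut V))) = 4 ∨
      Nat.card (fixSub ({(e : MulAut V)} : Set (MulAut V))) = 2 ∨
      Nat.card (fixSub ({(e : MulAut V)} : Set (MulAut V))) = 8) ∧
      Nat.card (fixSub ({(e : MulAut V)} : Set (MulAut V))) % 3 = Nat.card F % 3 := by
    intro e he
    refine ⟨?_, ?_⟩
    · have h := hdvd (fixSub ({(e : MulAut V)} : Set (MulAut V)))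
      simp only [Finset.mem_insert, Finset.mem_singleton] at h
      have hne : Nat.card (fixSub ({(e : MulAut V)} : Set (MulAut V))) ≠ 16 := fun h16 => by
        obtain ⟨v, hv⟩ := hne1 e he
        have : v ∈ fixSub ({(e : MulAut V)} : Set (MulAut V)) := by
          rw [Subgroup.eq_top_of_card_eq _ (h16.trans hV.symm)]; trivial
        exact hv (this e rfl)
      omega
    · have h := stable_mod_three E hE (fixSub ({(e : MulAut V)} : Set (MulAut V))) fun d hd v hv => by
        intro e' he'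
        rw [Set.mem_singleton_iff] at he'
        subst he'
        have h1 : (e : MulAut V) * d = d * e := congrArg Subtype.val (hcomm e ⟨d, hd⟩)
        have h2 : (e : MulAut V) (d v) = d ((e : MulAut V) v) := by
          rw [← MulAut.mul_apply, h1, MulAut.mul_apply]
        rw [h2, hv e rfl]
      rwa [inf_eq_right.2 fun v hv d hd => hv d (by rw [Set.mem_singleton_iff] at hd; exact hd ▸ e.2)]
        at h
  have hFmod : Nat.card F % 3 = 1 := by
    have h := stable_mod_three E hE ⊤ fun _ _ _ _ => trivial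
    rw [top_inf_eq, Subgroup.card_top, hV] at h
    exact h.symm
  have hfix' : ∀ e : E, e ≠ 1 → Nat.card (fixSub ({(e : MulAut V)} : Set (MulAut V))) = 1 ∨
      Nat.card (fixSub ({(e : MulAut V)} : Set (MulAut V))) = 4 := fun e he => by
    obtain ⟨h1, h2⟩ := hfix e he
    omega
  -- Burnside's count
  have hburn : 9 ∣ ∑ e : E, Nat.card (fixSub ({(e : MulAut V)} : Set (MulAut V))) := by
    letI : MulAction E V := MulAction.compHom V E.subtype
    haveI : Fintype (Quotient (MulAction.orbitRel E V)) := Fintype.ofFinite _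
    haveI : ∀ e : E, Fintype (MulAction.fixedBy V e) := fun e => Fintype.ofFinite _
    have h := MulAction.sum_card_fixedBy_eq_card_orbits_mul_card_group E V
    rw [← Nat.card_eq_fintype_card (α := E), hE] at h
    refine ⟨Fintype.card (Quotient (MulAction.orbitRel E V)), ?_⟩
    rw [mul_comm, ← h]
    refine sum_congr rfl fun e _ => ?_
    rw [← Nat.card_eq_fintype_card]
    exact Nat.card_congr (Equiv.subtypeEquivRight fun v => by
      simp only [mem_fixSub, Set.mem_singleton_iff, forall_eq, MulAction.mem_fixedBy]; rfl)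
  have htop : Nat.card (fixSub ({((1 : E) : MulAut V)} : Set (MulAut V))) = 16 := by
    rw [show fixSub ({((1 : E) : MulAut V)} : Set (MulAut V)) = ⊤ from
      eq_top_iff.2 fun v _ e he => by rw [Set.mem_singleton_iff] at he; subst he; rfl,
      Subgroup.card_top, hV]
  rw [← add_sum_erase _ _ (mem_univ (1 : E)), htop] at hburn
  have hcardE : (univ.erase (1 : E)).card = 8 := by
    rw [card_erase_of_mem (mem_univ _), card_univ, ← Nat.card_eq_fintype_card, hE]
  obtain ⟨e₀, he₀, hA⟩ : ∃ e : E, e ≠ 1 ∧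
      Nat.card (fixSub ({(e : MulAut V)} : Set (MulAut V))) = 4 := by
    by_contra hne
    push Not at hne
    rw [sum_congr rfl fun e he => (hfix' e (ne_of_mem_erase he)).resolve_right
      (hne e (ne_of_mem_erase he)), sum_const, hcardE] at hburn
    norm_num at hburn
  have hF : F = ⊥ := by
    by_contra hne
    have hF1 : Nat.card F ≠ 1 := fun h => hne (Subgroup.card_eq_one.1 h)
    have hall : ∀ e ∈ univ.erase (1 : E),
        Nat.card (fixSub ({(e : MulAut V)} : Set (MulAut V))) = 4 := fun e he => by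
      refine (hfix' e (ne_of_mem_erase he)).resolve_left fun h1 => hne ?_
      rw [eq_bot_iff, ← Subgroup.card_eq_one.1 h1]
      exact fun v hv d hd => hv d (by rw [Set.mem_singleton_iff] at hd; exact hd ▸ e.2)
    rw [sum_congr rfl hall, sum_const, hcardE] at hburn
    norm_num at hburn
  have hstab4 : ∀ U : Subgroup V, Nat.card U ≤ 4 → (∀ e ∈ E, ∀ u ∈ U, e u ∈ U) →
      Nat.card U = 1 ∨ Nat.card U = 4 := fun U hU hs => by
    have h1 := stable_mod_three E hE U hs
    have h2 : U ⊓ F = ⊥ := by rw [hF, inf_bot_eq]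
    rw [h2, Subgroup.card_bot] at h1
    have h3 := hdvd U
    simp only [Finset.mem_insert, Finset.mem_singleton] at h3
    unfold Nat.ModEq at h1
    omega
  set A := fixSub ({(e₀ : MulAut V)} : Set (MulAut V)) with hAdef
  have hd : ∀ d ∈ E, ∀ v : V, d ((e₀ : MulAut V) v) = (e₀ : MulAut V) (d v) := fun d hd v => by
    have h1 : (e₀ : MulAut V) * d = d * e₀ := congrArg Subtype.val (hcomm e₀ ⟨d, hd⟩)
    rw [← MulAut.mul_apply, ← h1, MulAut.mul_apply]
  have hAs : ∀ d ∈ E, ∀ a ∈ A, d a ∈ A := fun d hd' a ha e he => by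
    rw [Set.mem_singleton_iff] at he
    subst he
    rw [← hd d hd', ha _ rfl]
  let ψ : V →* V := MonoidHom.mk' (fun v => v⁻¹ * (e₀ : MulAut V) v) fun a b => by
    rw [map_mul, mul_inv_rev, hc b⁻¹ a⁻¹, mul_assoc, mul_assoc, ← mul_assoc b⁻¹,
      hc b⁻¹ ((e₀ : MulAut V) a), mul_assoc]
  have hψ : ∀ v, ψ v = v⁻¹ * (e₀ : MulAut V) v := fun _ => rfl
  have hker : ψ.ker = A := by
    ext v
    rw [MonoidHom.mem_ker, hψ, inv_mul_eq_one, hAdef, mem_fixSub]
    exact ⟨fun h e he => by rw [Set.mem_singleton_iff] at he; rw [he, ← h], fun h => (h _ rfl).symm⟩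
  have hB : Nat.card ψ.range = 4 := by
    have h := ψ.ker.card_mul_index
    rw [Subgroup.index_ker, hker, hA, hV] at h
    omega
  have hBs : ∀ d ∈ E, ∀ b ∈ ψ.range, d b ∈ ψ.range := by
    rintro d hd' _ ⟨v, rfl⟩
    exact ⟨d v, by rw [hψ, hψ, map_mul, map_inv, hd d hd']⟩
  have hdisj : A ⊓ ψ.range = ⊥ := by
    rw [eq_bot_iff]
    rintro _ ⟨hu, v, rfl⟩
    rw [Subgroup.mem_bot, hψ, inv_mul_eq_one]
    set u := ψ v with hudef
    have e1 : (e₀ : MulAut V) v = v * u := by rw [hudef, hψ, mul_inv_cancel_left]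
    have e2 : (e₀ : MulAut V) ((e₀ : MulAut V) v) = v := by
      rw [e1, map_mul, e1, hu _ rfl, mul_assoc, hsq, mul_one]
    have h10 : ∀ k : ℕ, (((e₀ : MulAut V)) ^ (2 * k)) v = v := fun k => by
      induction k with
      | zero => rfl
      | succ k ih =>
        rw [show 2 * (k + 1) = 2 * k + 1 + 1 by ring, pow_succ, pow_succ, MulAut.mul_apply,
          MulAut.mul_apply, e2, ih]
    have h5 := h10 5
    have h9 : ((e₀ : MulAut V)) ^ 9 = 1 := congrArg Subtype.val (hpow e₀)
    rw [show 2 * 5 = 9 + 1 by norm_num, pow_succ, h9, one_mul] at h5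
    exact h5.symm
  have hfixU : ∀ U : Subgroup V, Nat.card U = 4 → (∀ e ∈ E, ∀ u ∈ U, e u ∈ U) →
      ∀ e ∈ E, ∀ u ∈ U, u ≠ 1 → e u = u → ∀ u' ∈ U, e u' = u' := by
    intro U hU hs e he u hu hu1 heu u' hu'
    set W := U ⊓ fixSub ({e} : Set (MulAut V))
    have hW := hstab4 W ((Subgroup.card_le_of_le inf_le_left).trans hU.le) fun d hd' w hw =>
      ⟨hs d hd' w hw.1, fun e' he' => by
        rw [Set.mem_singleton_iff] at he'
        subst he'
        have h1 : e' * d = d * e' := congrArg Subtype.val (hcomm ⟨e', he⟩ ⟨d, hd'⟩)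
        rw [← MulAut.mul_apply, h1, MulAut.mul_apply, hw.2 e' rfl]⟩
    have huW : u ∈ W := ⟨hu, fun e' he' => by rw [Set.mem_singleton_iff] at he'; rw [he', heu]⟩
    have h4 : Nat.card W = 4 := hW.resolve_left fun h1 => hu1 (by
      rw [Subgroup.card_eq_one.1 h1] at huW; exact Subgroup.mem_bot.1 huW)
    have hWU : W = U := Subgroup.eq_of_le_of_card_ge inf_le_left (by rw [h4, hU])
    have : u' ∈ W := hWU.symm ▸ hu'
    exact this.2 e rfl
  refine ⟨A, ψ.range, hA, hB, hdisj, hAs, hBs, hfixU A hA hAs, hfixU _ hB hBs, ?_⟩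
  intro a ha ha1 b hb hb1 a' ha' ha1' b' hb' hb1'
  -- the orbit map is injective between sets of nine elements
  let f : E → {x : A // x ≠ 1} × {x : ψ.range // x ≠ 1} := fun e =>
    (⟨⟨(e : MulAut V) a, hAs e.1 e.2 a ha⟩, fun h => ha1 (by
        have := congrArg Subtype.val h
        exact (map_eq_one_iff (e : MulAut V) (e : MulAut V).injective).1 this)⟩,
      ⟨⟨(e : MulAut V) b, hBs e.1 e.2 b hb⟩, fun h => hb1 (by
        have := congrArg Subtype.val h
        exact (map_eq_one_iff (e : MulAut V) (e : MulAut V).injective).1 this)⟩)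
  have hgen : ∀ v : V, ∃ x ∈ A, ∃ y ∈ ψ.range, x * y = v := by
    intro v
    let g : A × ψ.range → V := fun p => (p.1 : V) * p.2
    have hg : Function.Injective g := by
      rintro ⟨x, y⟩ ⟨x', y'⟩ he
      have h1 : (x' : V)⁻¹ * x = y' * (y : V)⁻¹ := by
        apply mul_left_cancel (a := (x' : V))
        apply mul_right_cancel (b := (y : V))
        simp only [g] at he
        simp [mul_assoc, he]
      have h2 : (x' : V)⁻¹ * x ∈ A ⊓ ψ.range :=
        ⟨A.mul_mem (A.inv_mem x'.2) x.2, h1 ▸ ψ.range.mul_mem y'.2 (ψ.range.inv_mem y.2)⟩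
      rw [hdisj, Subgroup.mem_bot] at h2
      obtain rfl : x = x' := Subtype.ext (inv_mul_eq_one.1 h2).symm
      exact Prod.ext rfl (Subtype.ext (mul_left_cancel (he : (x : V) * y = x * y')))
    have hbij := (Fintype.bijective_iff_injective_and_card g).2 ⟨hg, by
      rw [← Nat.card_eq_fintype_card, ← Nat.card_eq_fintype_card, Nat.card_prod, hA, hB, hV]⟩
    obtain ⟨⟨x, y⟩, he⟩ := hbij.2 v
    exact ⟨x, x.2, y, y.2, he⟩
  have hinj : Function.Injective f := by
    intro d d' he
    have h1 : (d : MulAut V) a = (d' : MulAut V) a :=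
      congrArg (fun z => ((z.1 : {x : A // x ≠ 1}).1 : V)) he
    have h2 : (d : MulAut V) b = (d' : MulAut V) b :=
      congrArg (fun z => ((z.2 : {x : ψ.range // x ≠ 1}).1 : V)) he
    set c := d'⁻¹ * d
    have hca : (c : MulAut V) a = a := by
      show ((d' : MulAut V)⁻¹ * (d : MulAut V)) a = a
      rw [MulAut.mul_apply, h1, MulAut.inv_apply_self]
    have hcb : (c : MulAut V) b = b := by
      show ((d' : MulAut V)⁻¹ * (d : MulAut V)) b = b
      rw [MulAut.mul_apply, h2, MulAut.inv_apply_self]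
    have hc1 : c = 1 := Subtype.ext (MulEquiv.ext fun v => by
      obtain ⟨x, hx, y, hy, rfl⟩ := hgen v
      rw [map_mul, hfixU A hA hAs _ c.2 a ha ha1 hca x hx,
        hfixU _ hB hBs _ c.2 b hb hb1 hcb y hy]
      rfl)
    exact (inv_mul_eq_one.1 hc1).symm
  have hsur : Function.Surjective f := by
    refine ((Fintype.bijective_iff_injective_and_card f).2 ⟨hinj, ?_⟩).surjective
    rw [Fintype.card_prod, Fintype.card_subtype_compl, Fintype.card_subtype_compl,
      Fintype.card_subtype_eq, Fintype.card_subtype_eq, ← Nat.card_eq_fintype_card,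
      ← Nat.card_eq_fintype_card, ← Nat.card_eq_fintype_card, hA, hB, hE]
  obtain ⟨e, he⟩ := hsur (⟨⟨a', ha'⟩, fun h => ha1' (congrArg Subtype.val h)⟩,
    ⟨⟨b', hb'⟩, fun h => hb1' (congrArg Subtype.val h)⟩)
  exact ⟨e.1, e.2, congrArg (fun z => ((z.1 : {x : A // x ≠ 1}).1 : V)) he,
    congrArg (fun z => ((z.2 : {x : ψ.range // x ≠ 1}).1 : V)) he⟩

end CfsgLib.E16
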