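import Cfsg.Agent.BlocksB.E16Nine.Local
import Cfsg.Agent.BlocksB.E16Nine.Structure

/-!
# The principal `2`-block with defect group `E₁₆` and inertial index nine
-/

set_option autoImplicit false
set_option linter.style.haveILetI false
set_option linter.unusedSectionVars false

namespace CfsgLib.E16

open Cfsg Finset CfsgLib.Block CfsgLib.Block.Chr CfsgLib.Char CfsgLib.BlockB
open scoped ComplexConjugate
open scoped Classical

universe u

variable {G : Type u} [Group G] [Fintype G]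

local notation "C{" x "}" => Subgroup.centralizer ({x} : Set G)
local notation "N(" V ")" => Subgroup.normalizer (SetLike.coe V)

/-- The shape of the normalizer. -/
structure IsNine (V W₁ W₂ : Subgroup G) : Prop extends IsSplit V W₁ W₂ where
  fix₁ : ∀ n ∈ N(V), ∀ w ∈ W₁, w ≠ 1 → n * w * n⁻¹ = w → ∀ w' ∈ W₁, n * w' * n⁻¹ = w'
  fix₂ : ∀ n ∈ N(V), ∀ t ∈ W₂, t ≠ 1 → n * t * n⁻¹ = t → ∀ t' ∈ W₂, n * t' * n⁻¹ = t'
  trans : ∀ w ∈ W₁, w ≠ 1 → ∀ t ∈ W₂, t ≠ 1 → ∀ w' ∈ W₁, w' ≠ 1 → ∀ t' ∈ W₂, t' ≠ 1 →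
    ∃ n ∈ N(V), n * w * n⁻¹ = w' ∧ n * t * n⁻¹ = t'

theorem exists_nine {V : Subgroup G} (h : IsE16 V)
    (he : (Subgroup.centralizer (V : Set G)).relIndex N(V) = 9) :
    ∃ W₁ W₂ : Subgroup G, IsNine V W₁ W₂ := by
  set E := V.normalizerMonoidHom.range
  have hE : Nat.card E = 9 := by
    rw [← Subgroup.index_ker, Subgroup.normalizerMonoidHom_ker]
    exact he
  obtain ⟨A, B, hP⟩ := exists_pair h.card (fun a b => Subtype.ext (h.comm a a.2 b b.2))
    (fun a => Subtype.ext (h.sq a a.2)) E hE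
  let φ : ∀ n ∈ N(V), MulAut V := fun n hn => V.normalizerMonoidHom ⟨n, hn⟩
  have hφ : ∀ n (hn : n ∈ N(V)) (v : V), ((φ n hn v : V) : G) = n * v * n⁻¹ := fun n hn v => rfl
  have hφE : ∀ n (hn : n ∈ N(V)), φ n hn ∈ E := fun n hn => ⟨_, rfl⟩
  refine ⟨A.map V.subtype, B.map V.subtype,
    { e16 := h
      le := Subgroup.map_subtype_le A
      le' := Subgroup.map_subtype_le B
      card := by rw [Subgroup.card_map_of_injective V.subtype_injective, hP.cardA]
      card' := by rw [Subgroup.card_map_of_injective V.subtype_injective, hP.cardB]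
      disj := by rw [← Subgroup.map_inf _ _ _ V.subtype_injective, hP.disj, Subgroup.map_bot]
      stable := ?_
      stable' := ?_
      fix₁ := ?_
      fix₂ := ?_
      trans := ?_ }⟩
  · rintro n hn _ ⟨a, ha, rfl⟩
    exact ⟨φ n hn a, hP.stableA _ (hφE n hn) a ha, hφ n hn a⟩
  · rintro n hn _ ⟨a, ha, rfl⟩
    exact ⟨φ n hn a, hP.stableB _ (hφE n hn) a ha, hφ n hn a⟩
  · rintro n hn _ ⟨a, ha, rfl⟩ ha1 heq _ ⟨a', ha', rfl⟩
    have h1 := hP.fixA _ (hφE n hn) a ha (fun e => ha1 (by rw [e]; rfl))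
      (Subtype.ext ((hφ n hn a).trans heq)) a' ha'
    exact (hφ n hn a').symm.trans (congrArg Subtype.val h1)
  · rintro n hn _ ⟨a, ha, rfl⟩ ha1 heq _ ⟨a', ha', rfl⟩
    have h1 := hP.fixB _ (hφE n hn) a ha (fun e => ha1 (by rw [e]; rfl))
      (Subtype.ext ((hφ n hn a).trans heq)) a' ha'
    exact (hφ n hn a').symm.trans (congrArg Subtype.val h1)
  · rintro _ ⟨a, ha, rfl⟩ ha1 _ ⟨b, hb, rfl⟩ hb1 _ ⟨a', ha', rfl⟩ ha1' _ ⟨b', hb', rfl⟩ hb1'
    obtain ⟨_, ⟨⟨n, hn⟩, rfl⟩, e1, e2⟩ := hP.trans a ha (fun e => ha1 (by rw [e]; rfl)) b hb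
      (fun e => hb1 (by rw [e]; rfl)) a' ha' (fun e => ha1' (by rw [e]; rfl)) b' hb'
      (fun e => hb1' (by rw [e]; rfl))
    exact ⟨n, hn, (hφ n hn a).symm.trans (congrArg Subtype.val e1),
      (hφ n hn b).symm.trans (congrArg Subtype.val e2)⟩

variable {V W₁ W₂ : Subgroup G}

theorem IsNine.swap (h : IsNine V W₁ W₂) : IsNine V W₂ W₁ where
  e16 := h.e16
  le := h.le'
  le' := h.le
  card := h.card'
  card' := h.card
  disj := by rw [inf_comm]; exact h.disj
  stable := h.stable'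
  stable' := h.stable
  fix₁ := h.fix₂
  fix₂ := h.fix₁
  trans := fun t ht ht1 w hw hw1 t' ht' ht1' w' hw' hw1' => by
    obtain ⟨n, hn, e1, e2⟩ := h.trans w hw hw1 t ht ht1 w' hw' hw1' t' ht' ht1'
    exact ⟨n, hn, e2, e1⟩

theorem IsNine.free (h : IsNine V W₁ W₂) {n w t : G} (hn : n ∈ N(V)) (hw : w ∈ W₁) (hw1 : w ≠ 1)
    (ht : t ∈ W₂) (ht1 : t ≠ 1) (e1 : n * w * n⁻¹ = w) (e2 : n * t * n⁻¹ = t) :
    ∀ v ∈ V, n * v * n⁻¹ = v := by
  intro v hv
  obtain ⟨w', hw', t', ht', rfl⟩ := h.exists_decomp hv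
  rw [show n * (w' * t') * n⁻¹ = (n * w' * n⁻¹) * (n * t' * n⁻¹) by group,
    h.fix₁ n hn w hw hw1 e1 w' hw', h.fix₂ n hn t ht ht1 e2 t' ht']

/-- The centralizer of an element of the first factor is of the type already treated. -/
theorem IsNine.isType (h : IsNine V W₁ W₂) {w : G} (hw : w ∈ W₁) (hw1 : w ≠ 1) :
    IsType (V.subgroupOf C{w}) (W₁.subgroupOf C{w}) (W₂.subgroupOf C{w}) := by
  have hV := h.e16.le_centralizer (h.le hw)
  have hfix : ∀ n : C{w}, (n : G) * w * (n : G)⁻¹ = w := fun n =>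
    mul_inv_eq_iff_eq_mul.2 (Subgroup.mem_centralizer_singleton_iff.1 n.2)
  refine
    { e16 := h.e16.subgroupOf hV
      le := fun x hx => h.le hx
      le' := fun x hx => h.le' hx
      card := by
        rw [Nat.card_congr (Subgroup.subgroupOfEquivOfLe (h.le.trans hV)).toEquiv, h.card]
      card' := by
        rw [Nat.card_congr (Subgroup.subgroupOfEquivOfLe (h.le'.trans hV)).toEquiv, h.card']
      disj := ?_
      stable := fun n hn x hx => h.stable n (normalizer_coe hV hn) _ hx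
      stable' := fun n hn x hx => h.stable' n (normalizer_coe hV hn) _ hx
      fix := fun n hn x hx => Subtype.ext
        (h.fix₁ n (normalizer_coe hV hn) w hw hw1 (hfix n) _ hx)
      free := fun n hn t ht ht1 he v hv => Subtype.ext (h.free (normalizer_coe hV hn) hw hw1 ht
        (fun e => ht1 (Subtype.ext e)) (hfix n) (congrArg Subtype.val he) _ hv)
      trans := fun t ht ht1 t' ht' ht1' => ?_ }
  · rw [eq_bot_iff]
    rintro x ⟨hx, hx'⟩
    have hx2 : (x : G) ∈ W₁ ⊓ W₂ := ⟨hx, hx'⟩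
    rw [h.disj, Subgroup.mem_bot] at hx2
    exact Subgroup.mem_bot.2 (Subtype.ext hx2)
  · obtain ⟨n, hn, e1, e2⟩ := h.trans w hw hw1 _ ht (fun e => ht1 (Subtype.ext e)) w hw hw1 _ ht'
      (fun e => ht1' (Subtype.ext e))
    exact ⟨⟨n, Subgroup.mem_centralizer_singleton_iff.2 (mul_inv_eq_iff_eq_mul.1 e1)⟩,
      coe_normalizer hn, Subtype.ext e2⟩

/-- **The invariants of the principal block.** -/
theorem nine_counts {M : Ideal AlgInt} [M.IsPrime] (hM : IsPModular 2 M) (h : IsNine V W₁ W₂) :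
    Nat.card (principalBlock M G) = 16 ∧ blockRank 2 (principalBlock M G) = 9 := by
  haveI : Fact (Nat.Prime 2) := ⟨Nat.prime_two⟩
  letI := irrFintype (G := G)
  have hex : ∀ W : Subgroup G, Nat.card W = 4 → ∃ w ∈ W, w ≠ 1 := fun W hW => by
    by_contra hne
    push Not at hne
    rw [show W = ⊥ from (Subgroup.eq_bot_iff_forall _).2 hne, Subgroup.card_bot] at hW
    omega
  obtain ⟨u₁, hu₁, hu₁1⟩ := hex W₁ h.card
  obtain ⟨u₂, hu₂, hu₂1⟩ := hex W₂ h.card'
  set u₃ := u₁ * u₂ with hu₃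
  have hu₁V := h.le hu₁
  have hu₂V := h.le' hu₂
  have hu₃V : u₃ ∈ V := mul_mem hu₁V hu₂V
  have hu₃1 : u₃ ≠ 1 := fun e => hu₁1
    (h.unique hu₁ W₁.one_mem hu₂ W₂.one_mem (by rw [one_mul]; exact e)).1
  have h12 : u₁ ≠ u₂ := fun e => hu₁1
    (h.unique hu₁ W₁.one_mem W₂.one_mem hu₂ (by rw [one_mul, mul_one]; exact e)).1
  have h13 : u₁ ≠ u₃ := fun e => hu₂1 (mul_eq_left.1 e.symm)
  have h23 : u₂ ≠ u₃ := fun e => hu₁1 (mul_eq_right.1 e.symm)
  have hu₁W₂ : u₁ ∉ W₂ := fun e => hu₁1 (by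
    have : u₁ ∈ W₁ ⊓ W₂ := ⟨hu₁, e⟩
    rwa [h.disj, Subgroup.mem_bot] at this)
  have hu₂W₁ : u₂ ∉ W₁ := fun e => hu₂1 (by
    have : u₂ ∈ W₁ ⊓ W₂ := ⟨e, hu₂⟩
    rwa [h.disj, Subgroup.mem_bot] at this)
  have hu₃W₁ : u₃ ∉ W₁ := fun e => hu₂W₁ (by
    have := W₁.mul_mem (W₁.inv_mem hu₁) e
    rwa [hu₃, inv_mul_cancel_left] at this)
  have hu₃W₂ : u₃ ∉ W₂ := fun e => hu₁W₂ (by
    have := W₂.mul_mem e (W₂.inv_mem hu₂)
    rwa [hu₃, mul_inv_cancel_right] at this)
  set R : Finset G := {1, u₁, u₂, u₃}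
  have hsumR : ∀ {A : Type} [AddCommMonoid A] (φ : G → A),
      ∑ r ∈ R, φ r = φ 1 + (φ u₁ + (φ u₂ + φ u₃)) := fun {A} _ φ => by
    simp only [R]
    rw [sum_insert (by simp [hu₁1.symm, hu₂1.symm, hu₃1.symm]), sum_insert (by simp [h12, h13]),
      sum_insert (by simp [h23]), sum_singleton]
  have hR : IsReps V R := by
    refine ⟨fun r hr => ?_, fun v hv => ?_, fun r hr r' hr' g hg => ?_⟩
    · simp only [R, mem_insert, mem_singleton] at hr
      rcases hr with rfl | rfl | rfl | rfl <;> first | exact V.one_mem | assumption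
    · obtain ⟨w, hw, t, ht, rfl⟩ := h.exists_decomp hv
      by_cases hw1 : w = 1 <;> by_cases ht1 : t = 1
      · exact ⟨1, by simp [R], 1, by simp [hw1, ht1]⟩
      · obtain ⟨n, -, -, e2⟩ := h.trans u₁ hu₁ hu₁1 u₂ hu₂ hu₂1 u₁ hu₁ hu₁1 t ht ht1
        exact ⟨u₂, by simp [R], n, by rw [e2, hw1, one_mul]⟩
      · obtain ⟨n, -, e1, -⟩ := h.trans u₁ hu₁ hu₁1 u₂ hu₂ hu₂1 w hw hw1 u₂ hu₂ hu₂1
        exact ⟨u₁, by simp [R], n, by rw [e1, ht1, mul_one]⟩
      · obtain ⟨n, -, e1, e2⟩ := h.trans u₁ hu₁ hu₁1 u₂ hu₂ hu₂1 w hw hw1 t ht ht1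
        exact ⟨u₃, by simp [R], n, by rw [hu₃, ← e1, ← e2]; group⟩
    · have hdec : ∀ r ∈ R, ∃ w t, (w = 1 ∨ w = u₁) ∧ (t = 1 ∨ t = u₂) ∧ w * t = r := by
        intro r hr
        simp only [R, mem_insert, mem_singleton] at hr
        rcases hr with e | e | e | e
        · exact ⟨1, 1, by simp [e]⟩
        · exact ⟨u₁, 1, by simp [e]⟩
        · exact ⟨1, u₂, by simp [e]⟩
        · exact ⟨u₁, u₂, by simp [e, hu₃]⟩
      obtain ⟨w, t, hw, ht, rfl⟩ := hdec r hr
      obtain ⟨w', t', hw', ht', rfl⟩ := hdec r' hr'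
      have hW : ∀ {x : G}, (x = 1 ∨ x = u₁) → x ∈ W₁ := by
        rintro x (rfl | rfl) <;> [exact W₁.one_mem; exact hu₁]
      have hW' : ∀ {x : G}, (x = 1 ∨ x = u₂) → x ∈ W₂ := by
        rintro x (rfl | rfl) <;> [exact W₂.one_mem; exact hu₂]
      obtain ⟨n, hn, he⟩ := h.e16.fusion (mul_mem (h.le (hW hw)) (h.le' (hW' ht))) (g := g)
        (by rw [hg]; exact mul_mem (h.le (hW hw')) (h.le' (hW' ht')))
      rw [hg] at he
      obtain ⟨e1, e2⟩ := h.conj_eq hn (hW hw) (hW hw') (hW' ht) (hW' ht') he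
      have k1 : w = w' := by
        rcases hw with rfl | rfl <;> rcases hw' with rfl | rfl
        · rfl
        · exact absurd (by simpa using e1.symm) hu₁1
        · exact absurd (conj_eq_one_iff.1 e1) hu₁1
        · rfl
      have k2 : t = t' := by
        rcases ht with rfl | rfl <;> rcases ht' with rfl | rfl
        · rfl
        · exact absurd (by simpa using e2.symm) hu₂1
        · exact absurd (conj_eq_one_iff.1 e2) hu₂1
        · rfl
      rw [k1, k2]
  obtain ⟨a, -, hsec, hne, ho, hnorm, hl₃, hr₃⟩ := h.e16.free_section (M := M) hM hu₃V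
    fun n hn he => h.free hn hu₁ hu₁1 hu₂ hu₂1 (h.conj_eq hn hu₁ hu₁ hu₂ hu₂ he).1
      (h.conj_eq hn hu₁ hu₁ hu₂ hu₂ he).2
  obtain ⟨hl₁, hr₁⟩ := type_counts (M := M) hM _ ↥C{u₁} _ _ _ rfl (h.isType hu₁ hu₁1)
  obtain ⟨hl₂, hr₂⟩ := type_counts (M := M) hM _ ↥C{u₂} _ _ _ rfl (h.swap.isType hu₂ hu₂1)
  have hR1 : (1 : G) ∈ R := by simp [R]
  have hR₁ : u₁ ∈ R := by simp [R]
  have hR₂ : u₂ ∈ R := by simp [R]
  choose P hP using fun χ ψ : ↥(principalBlock M G) => h.e16.exists_int_sect hR hR₁ χ.1 ψ.1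
  choose Q hQ using fun χ ψ : ↥(principalBlock M G) => h.e16.exists_int_sect hR hR₂ χ.1 ψ.1
  choose T hT using fun χ ψ : ↥(principalBlock M G) => h.e16.exists_int_sect hR hR1 χ.1 ψ.1
  set o : ↥(principalBlock M G) := ⟨oneIrr G, oneIrr_mem_principalBlock⟩
  have hproj : ∀ (r : G) (S : ↥(principalBlock M G) → ↥(principalBlock M G) → ℤ), r ∈ R →
      (∀ χ ψ : ↥(principalBlock M G), 16 * sect r χ.1 ψ.1 = (S χ ψ : ℂ)) → IsProj S := by
    intro r S hr hS
    obtain ⟨k, hk⟩ := h.e16.exists_order (hR.mem r hr)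
    refine ⟨fun χ ψ => ?_, fun χ φ => ?_⟩
    · have h1 := congrArg conj (hS χ ψ)
      rw [map_mul, conj_sect, map_intCast, show conj (16 : ℂ) = 16 from map_ofNat _ _, hS ψ χ]
        at h1
      exact_mod_cast h1.symm
    · have h1 := sect_idem (M := M) hM hk χ φ
      have h2 : ((∑ ψ, S χ ψ * S ψ φ : ℤ) : ℂ) = ((16 * S χ φ : ℤ) : ℂ) := by
        push_cast
        simp only [← hS]
        rw [sum_congr rfl fun ψ _ => show 16 * sect r χ.1 ψ.1 * (16 * sect r ψ.1 φ.1) =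
          256 * (sect r χ.1 ψ.1 * sect r ψ.1 φ.1) by ring, ← mul_sum, h1]
        ring
      exact_mod_cast h2
  have hid : ∀ χ ψ : ↥(principalBlock M G), T χ ψ + P χ ψ + Q χ ψ + a χ * a ψ = if χ = ψ then 16 else 0 := by
    intro χ ψ
    have h1 := h.e16.sum_sect hR χ.1 ψ.1
    rw [hsumR] at h1
    have h2 : ((T χ ψ + P χ ψ + Q χ ψ + a χ * a ψ : ℤ) : ℂ) =
        ((if χ = ψ then 16 else 0 : ℤ) : ℂ) := by
      push_cast
      rw [← hT, ← hP, ← hQ, ← hsec]
      by_cases hχψ : χ = ψ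
      · rw [if_pos hχψ]
        rw [if_pos (congrArg Subtype.val hχψ)] at h1
        linear_combination 16 * h1
      · rw [if_neg hχψ]
        rw [if_neg fun e => hχψ (Subtype.ext e)] at h1
        linear_combination 16 * h1
    exact_mod_cast h2
  have hTeq : T = fun χ ψ => (if χ = ψ then 16 else 0) - P χ ψ - Q χ ψ - a χ * a ψ := by
    funext χ ψ
    linarith [hid χ ψ]
  have hrank : ∀ (r : G) (S : ↥(principalBlock M G) → ↥(principalBlock M G) → ℤ), r ∈ R →
      (∀ χ ψ : ↥(principalBlock M G), 16 * sect r χ.1 ψ.1 = (S χ ψ : ℂ)) →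
      ((∑ χ, S χ χ : ℤ) : ℂ) = 16 * (blockRank 2 (principalBlock M ↥C{r}) : ℂ) := by
    intro r S hr hS
    obtain ⟨k, hk⟩ := h.e16.exists_order (hR.mem r hr)
    push_cast
    rw [← sum_sect_diag hM hk, mul_sum]
    exact sum_congr rfl fun χ _ => (hS χ χ).symm
  have hcfg : Config a o P Q :=
    { projP := hproj u₁ P hR₁ hP
      projQ := hproj u₂ Q hR₂ hQ
      projT := by
        have h' := hproj 1 T hR1 hT
        rw [hTeq] at h'
        convert h'
      congP := fun χ ψ => by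
        obtain ⟨k, hk⟩ := h.e16.exists_int_outside hR h.le' h.card' h.stable' χ.1 ψ.1
        rw [hsumR, if_pos W₂.one_mem, if_neg hu₁W₂, if_pos hu₂, if_neg hu₃W₂] at hk
        refine ⟨k, ?_⟩
        have h2 : ((P χ ψ + a χ * a ψ : ℤ) : ℂ) = ((4 * k : ℤ) : ℂ) := by
          push_cast
          rw [← hP, ← hsec, ← hk]
          ring
        exact_mod_cast h2
      congQ := fun χ ψ => by
        obtain ⟨k, hk⟩ := h.e16.exists_int_outside hR h.le h.card h.stable χ.1 ψ.1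
        rw [hsumR, if_pos W₁.one_mem, if_pos hu₁, if_neg hu₂W₁, if_neg hu₃W₁] at hk
        refine ⟨k, ?_⟩
        have h2 : ((Q χ ψ + a χ * a ψ : ℤ) : ℂ) = ((4 * k : ℤ) : ℂ) := by
          push_cast
          rw [← hQ, ← hsec, ← hk]
          ring
        exact_mod_cast h2
      norm := hnorm
      trace := by
        have h1 := hrank u₁ P hR₁ hP
        rw [hl₁] at h1
        norm_num at h1
        exact_mod_cast h1
      oneP := by
        have h1 := hP o o
        rw [sect_one, hr₁] at h1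
        norm_num at h1
        exact_mod_cast h1.symm
      oneQ := by
        have h1 := hQ o o
        rw [sect_one, hr₂] at h1
        norm_num at h1
        exact_mod_cast h1.symm }
  -- the totals
  have hl₀ : blockRank 2 (principalBlock M ↥C{(1 : G)}) = blockRank 2 (principalBlock M G) :=
    CfsgLib.GapOne.blockRank_principal_centralizer_one hM
  set l := blockRank 2 (principalBlock M G)
  have hk : Fintype.card ↥(principalBlock M G) = l + 7 := by
    have h1 : ((∑ χ : ↥(principalBlock M G), (T χ χ + P χ χ + Q χ χ + a χ * a χ) : ℤ) : ℂ) =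
        ((∑ χ : ↥(principalBlock M G), (16 : ℤ) : ℤ) : ℂ) := by
      congr 1
      exact sum_congr rfl fun χ _ => by rw [hid, if_pos rfl]
    rw [sum_add_distrib, sum_add_distrib, sum_add_distrib, Int.cast_add, Int.cast_add,
      Int.cast_add, hrank 1 T hR1 hT, hrank u₁ P hR₁ hP, hrank u₂ Q hR₂ hQ, hnorm, hl₀, hl₁, hl₂,
      sum_const, card_univ] at h1
    push_cast [nsmul_eq_mul] at h1
    have h2 : (((Fintype.card ↥(principalBlock M G)) : ℕ) : ℂ) = ((l + 7 : ℕ) : ℂ) := by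
      push_cast
      linear_combination (-1 / 16 : ℂ) * h1
    exact_mod_cast h2
  have hr : ratio G = ((9 : ℕ) : ℂ) / ((16 : ℕ) : ℂ) := by
    have h1 := h.e16.sum_sect hR (oneIrr G) (oneIrr G)
    rw [if_pos rfl, hsumR] at h1
    simp only [sect_one] at h1
    rw [ratio_congr (CfsgLib.GapOne.centralizerOneEquiv (G := G)), hr₁, hr₂, hr₃] at h1
    push_cast
    linear_combination h1
  have hl1 : l ≠ 1 := blockRank_ne_one hM hr (by norm_num) (by norm_num)
  have hl0 : 1 ≤ l := GapOneElementary.one_le_blockRank hM isPBlock_principalBlock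
  have h16 := card_eq_sixteen hcfg hne (by rw [show a o = 1 from ho]; rfl) (by omega)
  rw [Nat.card_eq_fintype_card]
  exact ⟨h16, by omega⟩

end CfsgLib.E16
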