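import Cfsg.Agent.BlocksB.PrincipalInner
import Cfsg.Agent.BlocksB.Star.Inner
import Cfsg.Agent.BlocksB.Star.Generalized
import Cfsg.Agent.BlocksB.PrincipalGapValues
import Cfsg.Agent.BlocksB.FrobeniusSylow.IndexThree
import Cfsg.Agent.Char.PowPart

/-!
# Sections of the principal `2`-block with an elementary abelian Sylow subgroup of order sixteen

The contributions of the sections are integers over sixteen, and every stable integral generalized
character of the Sylow subgroup gives a congruence between them.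
-/

set_option autoImplicit false
set_option linter.style.haveILetI false
set_option linter.unusedSectionVars false

namespace CfsgLib.E16

open Cfsg Finset CfsgLib.Block CfsgLib.Block.Chr CfsgLib.Char CfsgLib.BlockB CfsgLib.BlockStar
open scoped ComplexConjugate
open scoped Classical

universe u

variable {G : Type u} [Group G] [Fintype G]

local notation "C{" x "}" => Subgroup.centralizer ({x} : Set G)

/-- The inner product of two characters on the `2`-section of `x`. -/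
noncomputable def sect (x : G) (χ ψ : IrrCharacter G) : ℂ :=
  (Nat.card C{x} : ℂ)⁻¹ * ∑ s : C{x},
    if 2 ∣ orderOf s then 0 else (χ : G → ℂ) (x * s) * conj ((ψ : G → ℂ) (x * s))

/-- The proportion of elements of odd order. -/
noncomputable def ratio (X : Type u) [Group X] [Fintype X] : ℂ :=
  (Nat.card X : ℂ)⁻¹ * ∑ s : X, if 2 ∣ orderOf s then 0 else 1

theorem sect_one (x : G) : sect x (oneIrr G) (oneIrr G) = ratio ↥C{x} := by
  simp [sect, ratio]

theorem ratio_congr {X Y : Type u} [Group X] [Fintype X] [Group Y] [Fintype Y] (e : X ≃* Y) :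
    ratio X = ratio Y := by
  rw [ratio, ratio, Nat.card_congr e.toEquiv]
  congr 1
  exact Fintype.sum_equiv e.toEquiv _ _ fun x => by
    simp only [MulEquiv.toEquiv_eq_coe, MulEquiv.coe_toEquiv, MulEquiv.orderOf_eq]

theorem conj_sect (x : G) (χ ψ : IrrCharacter G) : conj (sect x χ ψ) = sect x ψ χ := by
  simp only [sect, map_mul, map_inv₀, map_natCast, map_sum]
  congr 1
  refine sum_congr rfl fun s _ => ?_
  split_ifs with h
  · simp
  · rw [map_mul, Complex.conj_conj, mul_comm]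

theorem sect_conj (g x : G) (χ ψ : IrrCharacter G) :
    (Nat.card C{g * x * g⁻¹} : ℂ) * sect (g * x * g⁻¹) χ ψ = (Nat.card C{x} : ℂ) * sect x χ ψ := by
  have hmem : ∀ {a y z : G}, a * y * a⁻¹ = z → ∀ {s : G}, s * y = y * s →
      a * s * a⁻¹ * z = z * (a * s * a⁻¹) := by
    rintro a y z rfl s h
    calc a * s * a⁻¹ * (a * y * a⁻¹) = a * (s * y) * a⁻¹ := by group
      _ = a * (y * s) * a⁻¹ := by rw [h]
      _ = _ := by group
  let e : C{x} ≃ C{g * x * g⁻¹} :=
    { toFun := fun s => ⟨g * s * g⁻¹, Subgroup.mem_centralizer_singleton_iff.2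
        (hmem rfl (Subgroup.mem_centralizer_singleton_iff.1 s.2))⟩
      invFun := fun s => ⟨g⁻¹ * s * g, Subgroup.mem_centralizer_singleton_iff.2 (by
        have := hmem (a := g⁻¹) (y := g * x * g⁻¹) (z := x) (by group)
          (Subgroup.mem_centralizer_singleton_iff.1 s.2)
        simpa using this)⟩
      left_inv := fun s => Subtype.ext (by simp [mul_assoc])
      right_inv := fun s => Subtype.ext (by simp [mul_assoc]) }
  rw [sect, sect, ← mul_assoc, ← mul_assoc, mul_inv_cancel₀ (Nat.cast_ne_zero.2 Nat.card_pos.ne'),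
    mul_inv_cancel₀ (Nat.cast_ne_zero.2 Nat.card_pos.ne'), one_mul, one_mul]
  refine (Fintype.sum_equiv e _ _ fun s => ?_).symm
  have ho : orderOf (e s) = orderOf s := by
    rw [← Subgroup.orderOf_coe, ← Subgroup.orderOf_coe (H := C{x})]
    exact (MulAut.conj g).orderOf_eq (s : G)
  rw [ho]
  have hval : g * x * g⁻¹ * ((e s : C{g * x * g⁻¹}) : G) = g * (x * s) * g⁻¹ := by
    show g * x * g⁻¹ * (g * s * g⁻¹) = _
    group
  rw [hval, isClassFunction_irr χ, isClassFunction_irr ψ]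

/-! ### The elements of two-power order -/

variable (V : Subgroup G)

/-- The standing hypothesis on the Sylow subgroup. -/
structure IsE16 : Prop where
  card : Nat.card V = 16
  sq : ∀ x ∈ V, x * x = 1
  odd_index : ¬ 2 ∣ V.index

variable {V}

theorem IsE16.isPGroup (h : IsE16 V) : IsPGroup 2 V :=
  IsPGroup.of_card (n := 4) (by rw [h.card]; norm_num)

theorem IsE16.comm (h : IsE16 V) : ∀ x ∈ V, ∀ y ∈ V, x * y = y * x := by
  intro a ha b hb
  have h3 := h.sq _ (mul_mem ha hb)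
  calc a * b = a * (a * b * (a * b)) * b := by rw [h3, mul_one]
    _ = (a * a) * (b * a) * (b * b) := by group
    _ = b * a := by rw [h.sq a ha, h.sq b hb, one_mul, mul_one]

/-- The Sylow subgroup. -/
noncomputable def IsE16.sylow (h : IsE16 V) : Sylow 2 G := h.isPGroup.toSylow h.odd_index

@[simp] theorem IsE16.coe_sylow (h : IsE16 V) : (h.sylow : Subgroup G) = V := rfl

theorem IsE16.exists_conj_le (h : IsE16 V) {Q : Subgroup G} (hQ : IsPGroup 2 Q) :
    ∃ g : G, ∀ x ∈ Q, g * x * g⁻¹ ∈ V := by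
  obtain ⟨S, hS⟩ := hQ.exists_le_sylow
  obtain ⟨g, hg⟩ := MulAction.exists_smul_eq G S h.sylow
  refine ⟨g, fun x hx => ?_⟩
  have : g * x * g⁻¹ ∈ ((g • S : Sylow 2 G) : Subgroup G) := by
    rw [Sylow.coe_subgroup_smul, Subgroup.pointwise_smul_def]
    exact ⟨x, hS hx, by simp⟩
  rwa [hg] at this

theorem IsE16.exists_conj_mem (h : IsE16 V) {x : G} (hx : x ∈ pSet 2 G) :
    ∃ g : G, g * x * g⁻¹ ∈ V := by
  obtain ⟨n, hn⟩ := mem_pSet.1 hx
  obtain ⟨g, hg⟩ := h.exists_conj_le (Q := Subgroup.zpowers x) fun y => ⟨n, by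
    obtain ⟨_, i, rfl⟩ := y
    apply Subtype.ext
    show (x ^ i) ^ 2 ^ n = 1
    rw [← zpow_natCast, ← zpow_mul, mul_comm, zpow_mul, zpow_natCast, hn, one_zpow]⟩
  exact ⟨g, hg x (Subgroup.mem_zpowers x)⟩

theorem IsE16.mem_pSet (h : IsE16 V) {x : G} (hx : x ∈ V) : x ∈ pSet 2 G :=
  BlockStar.mem_pSet.2 ⟨1, by rw [pow_one, pow_two, h.sq x hx]⟩

theorem IsE16.exists_order (h : IsE16 V) {x : G} (hx : x ∈ V) :
    ∃ k : ℕ, orderOf x = 2 ^ k := by
  have h2 : orderOf x ∣ 2 ^ 1 := orderOf_dvd_of_pow_eq_one (by rw [pow_one, pow_two, h.sq x hx])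
  obtain ⟨k, -, hk⟩ := (Nat.dvd_prime_pow Nat.prime_two).1 h2
  exact ⟨k, hk⟩

theorem IsE16.two_pow_sixteen (h : IsE16 V) {x : G} (hx : x ∈ pSet 2 G) : x ^ 16 = 1 := by
  obtain ⟨g, hg⟩ := h.exists_conj_mem hx
  have h2 := h.sq _ hg
  rw [← pow_two, conj_pow] at h2
  have h3 : x ^ 2 = 1 := conj_eq_one_iff.1 h2
  rw [show 16 = 2 * 8 by norm_num, pow_mul, h3, one_pow]

/-- Burnside: fusion is controlled by the normalizer. -/
theorem IsE16.fusion (h : IsE16 V) {x g : G} (hx : x ∈ V) (hg : g * x * g⁻¹ ∈ V) :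
    ∃ n ∈ Subgroup.normalizer (V : Set G), n * x * n⁻¹ = g * x * g⁻¹ := by
  haveI : IsMulCommutative (h.sylow : Subgroup G) :=
    ⟨⟨fun a b => Subtype.ext (h.comm a a.2 b b.2)⟩⟩
  obtain ⟨n, hn, he⟩ := h.sylow.conj_eq_normalizer_conj_of_mem x g⁻¹ hx
    (show g⁻¹⁻¹ * x * g⁻¹ ∈ V by simpa using hg)
  refine ⟨n⁻¹, inv_mem hn, ?_⟩
  simpa using he.symm

/-- The representatives of the classes of two-power elements. -/
structure IsReps (V : Subgroup G) (R : Finset G) : Prop where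
  mem : ∀ r ∈ R, r ∈ V
  cover : ∀ v ∈ V, ∃ r ∈ R, ∃ g : G, g * r * g⁻¹ = v
  eq : ∀ r ∈ R, ∀ r' ∈ R, ∀ g : G, g * r * g⁻¹ = r' → r = r'

theorem card_class (r : G) :
    (univ.filter fun x : G => ∃ g : G, g * r * g⁻¹ = x).card * Nat.card C{r} = Nat.card G := by
  have h1 : Nat.card G = ∑ x ∈ univ.filter (fun x : G => ∃ g : G, g * r * g⁻¹ = x),
      (univ.filter fun g : G => g * r * g⁻¹ = x).card := by
    rw [Nat.card_eq_fintype_card, ← card_univ]
    exact card_eq_sum_card_fiberwise fun g _ => mem_filter.2 ⟨mem_univ _, g, rfl⟩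
  rw [h1, sum_const_nat (m := Nat.card C{r}) fun x hx => ?_]
  obtain ⟨g, rfl⟩ := (mem_filter.1 hx).2
  rw [← Fintype.card_subtype, ← Nat.card_eq_fintype_card]
  refine Nat.card_congr
    { toFun := fun a => ⟨g⁻¹ * a.1, Subgroup.mem_centralizer_singleton_iff.2 ?_⟩
      invFun := fun c => ⟨g * c.1, ?_⟩
      left_inv := fun a => Subtype.ext (by simp)
      right_inv := fun c => Subtype.ext (by simp) }
  · calc g⁻¹ * a.1 * r = g⁻¹ * (a.1 * r * a.1⁻¹) * a.1 := by group
      _ = g⁻¹ * (g * r * g⁻¹) * a.1 := by rw [a.2]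
      _ = r * (g⁻¹ * a.1) := by group
  · have := Subgroup.mem_centralizer_singleton_iff.1 c.2
    calc g * (c.1 : G) * r * (g * c.1)⁻¹ = g * ((c.1 : G) * r) * (c.1 : G)⁻¹ * g⁻¹ := by group
      _ = g * r * g⁻¹ := by rw [this]; group

/-- Sums over the two-power elements are sums over representatives. -/
theorem IsReps.sum_pSet (h : IsE16 V) {R : Finset G} (hR : IsReps V R) (F : G → ℂ)
    (hF : ∀ g x : G, F (g * x * g⁻¹) = F x) :
    ∑ x ∈ pSet 2 G, F x = ∑ r ∈ R, (Nat.card G : ℂ) / (Nat.card C{r} : ℂ) * F r := by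
  have hd : (R : Set G).PairwiseDisjoint fun r =>
      univ.filter fun x : G => ∃ g : G, g * r * g⁻¹ = x := by
    intro r hr r' hr' hne
    rw [Function.onFun, Finset.disjoint_left]
    intro x hx hx'
    obtain ⟨g, rfl⟩ := (mem_filter.1 hx).2
    obtain ⟨g', hg'⟩ := (mem_filter.1 hx').2
    refine hne (hR.eq r hr r' hr' (g'⁻¹ * g) ?_)
    calc g'⁻¹ * g * r * (g'⁻¹ * g)⁻¹ = g'⁻¹ * (g * r * g⁻¹) * g' := by group
      _ = r' := by rw [← hg']; group
  have hset : pSet 2 G = R.biUnion fun r =>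
      univ.filter fun x : G => ∃ g : G, g * r * g⁻¹ = x := by
    ext x
    simp only [mem_biUnion, mem_filter, mem_univ, true_and]
    constructor
    · intro hx
      obtain ⟨g, hg⟩ := h.exists_conj_mem hx
      obtain ⟨r, hr, a, ha⟩ := hR.cover _ hg
      refine ⟨r, hr, g⁻¹ * a, ?_⟩
      calc g⁻¹ * a * r * (g⁻¹ * a)⁻¹ = g⁻¹ * (a * r * a⁻¹) * g := by group
        _ = x := by rw [ha]; group
    · rintro ⟨r, hr, g, rfl⟩
      obtain ⟨n, hn⟩ := BlockStar.mem_pSet.1 (h.mem_pSet (hR.mem r hr))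
      exact BlockStar.mem_pSet.2 ⟨n, by rw [conj_pow, hn, mul_one, mul_inv_cancel]⟩
  rw [hset, sum_biUnion hd]
  refine sum_congr rfl fun r _ => ?_
  rw [sum_congr rfl fun x hx => show F x = F r by
    obtain ⟨g, rfl⟩ := (mem_filter.1 hx).2
    exact hF g r, sum_const, nsmul_eq_mul, ← card_class r]
  push_cast
  have : (Nat.card C{r} : ℂ) ≠ 0 := Nat.cast_ne_zero.2 Nat.card_pos.ne'
  field_simp

theorem sum_centralizer_zpowers {H K : Subgroup G} [Fintype H] [Fintype K] (h : H = K)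
    (F : G → ℂ) :
    ∑ s : H, (if 2 ∣ orderOf s then 0 else F s) = ∑ s : K, if 2 ∣ orderOf s then 0 else F s := by
  subst h
  convert rfl

/-- A stable function on the Sylow subgroup that is a generalized character lifts. -/
theorem IsE16.exists_lift (h : IsE16 V) (f : G → ℂ)
    (hgen : IsGeneralizedCharacter V fun v : V => f v)
    (hst : ∀ g : G, ∀ v ∈ V, g * v * g⁻¹ ∈ V → f (g * v * g⁻¹) = f v) :
    ∃ Θ : G → ℂ, IsGeneralizedCharacter G Θ ∧ ∀ x ∈ V, ∀ s : C{x}, ¬ 2 ∣ orderOf s →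
      ∀ g : G, Θ (g * (x * s) * g⁻¹) = f x := by
  set m := V.index
  have hG : Nat.card G = 16 * m := by rw [← h.card, Subgroup.card_mul_index]
  have hcop : Nat.Coprime 16 m := by
    rw [show 16 = 2 ^ 4 by norm_num]
    exact ((Nat.prime_two.coprime_iff_not_dvd).2 h.odd_index).pow_left 4
  obtain ⟨j, hj, hj1, hj0⟩ := exists_exp hcop (by norm_num) Subgroup.index_ne_zero_of_finite
  have hex : ∀ g : G, ∃ a : G, a * g ^ j * a⁻¹ ∈ V := fun g =>
    h.exists_conj_mem (BlockStar.mem_pSet.2 ⟨4, by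
      show (g ^ j) ^ 2 ^ 4 = 1
      exact pow_part_pow hj1 hj0 hG.dvd g⟩)
  choose a ha using hex
  set Θ : G → ℂ := fun g => f (a g * g ^ j * (a g)⁻¹)
  have hval : ∀ (g b : G), b * g ^ j * b⁻¹ ∈ V → Θ g = f (b * g ^ j * b⁻¹) := by
    intro g b hb
    have h1 : a g * b⁻¹ * (b * g ^ j * b⁻¹) * (a g * b⁻¹)⁻¹ = a g * g ^ j * (a g)⁻¹ := by group
    have h2 := hst (a g * b⁻¹) _ hb (h1 ▸ ha g)
    rw [h1] at h2
    exact h2
  have hcl : IsClassFunction G Θ := fun g x => by
    have h1 : a g * x⁻¹ * (x * g * x⁻¹) ^ j * (a g * x⁻¹)⁻¹ = a g * g ^ j * (a g)⁻¹ := by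
      rw [conj_pow]; group
    rw [hval (x * g * x⁻¹) (a g * x⁻¹) (by rw [h1]; exact ha g), h1]
  refine ⟨Θ, isGeneralized_of_restrict_elementary hcl fun E q hq hE => ?_, fun x hx s hs g => ?_⟩
  · have hEd : Nat.card E ∣ 16 * m := hG ▸ Subgroup.card_subgroup_dvd_card E
    let φ : E →* E := MonoidHom.mk' (fun e => e ^ j) fun x y =>
      pow_part_mul hj1 hj0 hq hE hEd hcop hj x y
    obtain ⟨b, hb⟩ := h.exists_conj_le (Q := φ.range.map E.subtype) (by
      refine IsPGroup.map ?_ _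
      rintro ⟨e, y, hy⟩
      refine ⟨4, Subtype.ext ?_⟩
      show e ^ 2 ^ 4 = 1
      rw [← hy]
      exact pow_part_pow hj1 hj0 hEd y)
    have hmem : ∀ e : E, b * (e : G) ^ j * b⁻¹ ∈ V := fun e =>
      hb _ ⟨φ e, ⟨e, rfl⟩, by simp [φ]⟩
    let ψ : E →* V := MonoidHom.mk' (fun e => ⟨b * (e : G) ^ j * b⁻¹, hmem e⟩) fun x y =>
      Subtype.ext (by
        have h1 : ((x * y) ^ j : E) = x ^ j * y ^ j :=
          pow_part_mul hj1 hj0 hq hE hEd hcop hj x y
        have h2 : ((x : G) * y) ^ j = (x : G) ^ j * (y : G) ^ j := by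
          simpa using congrArg Subtype.val h1
        simp [h2, mul_assoc])
    convert IsGeneralized.comp hgen ψ using 1
    funext e
    exact hval _ _ (hmem e)
  · have hx16 : x ^ 16 = 1 := h.two_pow_sixteen (h.mem_pSet hx)
    have hsm : (s : G) ^ m = 1 := by
      have h1 : (orderOf (s : G)).Coprime 16 := by
        rw [Subgroup.orderOf_coe, show 16 = 2 ^ 4 by norm_num]
        exact ((Nat.prime_two.coprime_iff_not_dvd).2 hs).symm.pow_right 4
      exact orderOf_dvd_iff_pow_eq_one.1 (h1.dvd_of_dvd_mul_left (hG ▸ orderOf_dvd_natCard _))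
    have hxj : (x * s) ^ j = x := by
      rw [(show Commute x s from (Subgroup.mem_centralizer_singleton_iff.1 s.2).symm).mul_pow,
        pow_part_eq_self hj1 hj0 hx16, pow_part_eq_one hj1 hj0 hsm, mul_one]
    have h1 : g⁻¹ * (g * (x * s) * g⁻¹) ^ j * g⁻¹⁻¹ = x := by rw [conj_pow, hxj]; group
    rw [hval _ g⁻¹ (by rw [h1]; exact hx), h1]

/-- **The weighted sum of the sections is an integer.** -/
theorem IsE16.exists_int_sum (h : IsE16 V) {R : Finset G} (hR : IsReps V R) (f : G → ℂ)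
    (hgen : IsGeneralizedCharacter V fun v : V => f v)
    (hst : ∀ g : G, ∀ v ∈ V, g * v * g⁻¹ ∈ V → f (g * v * g⁻¹) = f v) (χ ψ : IrrCharacter G) :
    ∃ k : ℤ, ∑ r ∈ R, f r * sect r χ ψ = (k : ℂ) := by
  haveI : Fact (Nat.Prime 2) := ⟨Nat.prime_two⟩
  obtain ⟨Θ, hΘ, hΘv⟩ := h.exists_lift f hgen hst
  obtain ⟨k, hk⟩ := IsGeneralized.exists_classInner_eq_int
    (IsGeneralized.mul (IsIrrCharacter.isGeneralized χ.2) hΘ) (IsIrrCharacter.isGeneralized ψ.2)
  refine ⟨k, ?_⟩
  rw [← hk, CfsgLib.Char.classInner_def, sum_eq_sum_sections (p := 2)]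
  simp only [Pi.mul_apply]
  set F : G → ℂ := fun x => ∑ s : C{x},
    if 2 ∣ orderOf s then 0 else ((χ : G → ℂ) (x * s) * Θ (x * s)) * conj ((ψ : G → ℂ) (x * s))
  rw [sum_congr rfl fun x _ => (sum_centralizer_zpowers
    (centralizer_zpowers_eq x)
    (fun s => ((χ : G → ℂ) (x * s) * Θ (x * s)) * conj ((ψ : G → ℂ) (x * s))) :
    _ = F x)]
  have hval : ∀ r ∈ R, ∀ g : G, F (g * r * g⁻¹) = f r * ((Nat.card C{r} : ℂ) * sect r χ ψ) := by
    intro r hr g
    rw [← sect_conj g r χ ψ, sect, ← mul_assoc (Nat.card C{g * r * g⁻¹} : ℂ),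
      mul_inv_cancel₀ (Nat.cast_ne_zero.2 Nat.card_pos.ne'), one_mul, mul_sum]
    refine sum_congr rfl fun s _ => ?_
    split_ifs with hs
    · rw [mul_zero]
    · have hmem : g⁻¹ * (s : G) * g ∈ C{r} := by
        refine Subgroup.mem_centralizer_singleton_iff.2 ?_
        have h1 := Subgroup.mem_centralizer_singleton_iff.1 s.2
        calc g⁻¹ * (s : G) * g * r = g⁻¹ * ((s : G) * (g * r * g⁻¹)) * g := by group
          _ = g⁻¹ * (g * r * g⁻¹ * s) * g := by rw [h1]
          _ = _ := by group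
      have ho : ¬ 2 ∣ orderOf (⟨_, hmem⟩ : C{r}) := by
        rw [← Subgroup.orderOf_coe] at hs ⊢
        show ¬ 2 ∣ orderOf (g⁻¹ * (s : G) * g)
        have he := (MulAut.conj g⁻¹).orderOf_eq (s : G)
        rw [show (MulAut.conj g⁻¹) (s : G) = g⁻¹ * (s : G) * g by simp] at he
        rwa [he]
      have hΘs : Θ (g * r * g⁻¹ * s) = f r := by
        rw [← hΘv r (hR.mem r hr) ⟨_, hmem⟩ ho g]
        congr 1
        show g * r * g⁻¹ * s = g * (r * (g⁻¹ * s * g)) * g⁻¹
        group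
      simp only [hΘs]
      ring
  have hFc : ∀ g x : G, x ∈ pSet 2 G → F (g * x * g⁻¹) = F x := by
    intro g x hx
    obtain ⟨b, hb⟩ := h.exists_conj_mem hx
    obtain ⟨r, hr, c, hc⟩ := hR.cover _ hb
    have e1 : x = b⁻¹ * c * r * (b⁻¹ * c)⁻¹ := by
      rw [show b⁻¹ * c * r * (b⁻¹ * c)⁻¹ = b⁻¹ * (c * r * c⁻¹) * b by group, hc]; group
    rw [show g * x * g⁻¹ = g * (b⁻¹ * c) * r * (g * (b⁻¹ * c))⁻¹ by rw [e1]; group,
      hval r hr, e1, hval r hr]
  set F' : G → ℂ := fun x => if x ∈ pSet 2 G then F x else 0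
  rw [sum_congr rfl fun x hx => show F x = F' x from (if_pos hx).symm,
    IsReps.sum_pSet h hR F' fun g x => ?_, mul_sum]
  · refine sum_congr rfl fun r hr => ?_
    simp only [F', if_pos (h.mem_pSet (hR.mem r hr))]
    have h1 := hval r hr 1
    rw [one_mul, inv_one, mul_one] at h1
    rw [h1]
    have e1 : (Nat.card G : ℂ) ≠ 0 := Nat.cast_ne_zero.2 Nat.card_pos.ne'
    have e2 : (Nat.card C{r} : ℂ) ≠ 0 := Nat.cast_ne_zero.2 Nat.card_pos.ne'
    field_simp
  · have hiff : g * x * g⁻¹ ∈ pSet 2 G ↔ x ∈ pSet 2 G := by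
      simp [BlockStar.mem_pSet, conj_pow]
    by_cases hx : x ∈ pSet 2 G
    · simp only [F', if_pos hx, if_pos (hiff.2 hx), hFc g x hx]
    · simp only [F', if_neg hx, if_neg (mt hiff.1 hx)]

/-- The sections add up to the identity. -/
theorem IsE16.sum_sect (h : IsE16 V) {R : Finset G} (hR : IsReps V R) (χ ψ : IrrCharacter G) :
    ∑ r ∈ R, sect r χ ψ = if χ = ψ then 1 else 0 := by
  haveI : Fact (Nat.Prime 2) := ⟨Nat.prime_two⟩
  rw [← classInner_irr χ ψ, CfsgLib.Char.classInner_def, sum_eq_sum_sections (p := 2),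
    sum_congr rfl fun x _ => sum_centralizer_zpowers (centralizer_zpowers_eq x)
      (fun s => (χ : G → ℂ) (x * s) * conj ((ψ : G → ℂ) (x * s))),
    sum_congr rfl fun x _ => show (∑ s : C{x}, if 2 ∣ orderOf s then 0 else
        (χ : G → ℂ) (x * s) * conj ((ψ : G → ℂ) (x * s))) = (Nat.card C{x} : ℂ) * sect x χ ψ by
      rw [sect, ← mul_assoc, mul_inv_cancel₀ (Nat.cast_ne_zero.2 Nat.card_pos.ne'), one_mul],
    IsReps.sum_pSet h hR _ fun g x => sect_conj g x χ ψ, mul_sum]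
  refine sum_congr rfl fun r _ => ?_
  have e1 : (Nat.card G : ℂ) ≠ 0 := Nat.cast_ne_zero.2 Nat.card_pos.ne'
  have e2 : (Nat.card C{r} : ℂ) ≠ 0 := Nat.cast_ne_zero.2 Nat.card_pos.ne'
  field_simp

/-! ### The two weights -/

theorem int_of_sq_eq_one {X : Type u} [Group X] [Fintype X] (ψ : IrrCharacter X) {v : X}
    (hv : v * v = 1) : ∃ z : ℤ, (ψ : X → ℂ) v = (z : ℂ) := by
  by_cases h1 : v = 1
  · exact ⟨(charDegree (ψ : X → ℂ) : ℤ), by rw [h1, (irr_one ψ).1]; push_cast; rfl⟩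
  · exact FrobeniusSylow.exists_int_involution ψ (orderOf_eq_prime (by rw [pow_two, hv]) h1)

theorem IsE16.isGeneralized_point (h : IsE16 V) (v : V) :
    IsGeneralizedCharacter V fun w : V => if w = v then (16 : ℂ) else 0 := by
  refine isGeneralized_of_classInner_int (fun w x => ?_) fun ψ hψ => ?_
  · rw [show x * w * x⁻¹ = w from Subtype.ext (by
      rw [Subgroup.coe_mul, Subgroup.coe_mul, InvMemClass.coe_inv, h.comm _ x.2 _ w.2,
        mul_inv_cancel_right])]
  · obtain ⟨z, hz⟩ := int_of_sq_eq_one (⟨ψ, hψ⟩ : IrrCharacter V) (v := v)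
      (Subtype.ext (h.sq _ v.2))
    refine ⟨z, ?_⟩
    rw [CfsgLib.Char.classInner_def, h.card]
    simp only [ite_mul, zero_mul, sum_ite_eq', mem_univ, if_true]
    rw [show ψ v = (z : ℂ) from hz, map_intCast]
    push_cast
    ring

theorem IsE16.isGeneralized_outside (h : IsE16 V) {U : Subgroup G} (hUV : U ≤ V)
    (hU : Nat.card U = 4) :
    IsGeneralizedCharacter V fun w : V => if (w : G) ∈ U then (0 : ℂ) else 4 := by
  refine isGeneralized_of_classInner_int (fun w x => ?_) fun ψ hψ => ?_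
  · rw [show x * w * x⁻¹ = w from Subtype.ext (by
      rw [Subgroup.coe_mul, Subgroup.coe_mul, InvMemClass.coe_inv, h.comm _ x.2 _ w.2,
        mul_inv_cancel_right])]
  · set U' := U.subgroupOf V
    have hU' : Nat.card U' = 4 := by
      rw [Nat.card_congr (Subgroup.subgroupOfEquivOfLe hUV).toEquiv, hU]
    obtain ⟨m, hm⟩ := IsGeneralized.exists_classInner_eq_int (isGeneralized_one (G := V))
      (IsIrrCharacter.isGeneralized hψ)
    obtain ⟨n, hn⟩ := IsGeneralized.exists_classInner_eq_int (isGeneralized_one (G := U'))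
      (IsGeneralized.restrict (IsIrrCharacter.isGeneralized hψ) U')
    refine ⟨4 * m - n, ?_⟩
    rw [CfsgLib.Char.classInner_def, h.card] at hm ⊢
    rw [CfsgLib.Char.classInner_def, hU'] at hn
    push_cast at hm hn ⊢
    rw [← hm, ← hn]
    have hsub : ∑ u : U', (1 : ℂ) * conj (ψ (u : V)) =
        ∑ w : V, if (w : G) ∈ U then conj (ψ w) else 0 := by
      simp only [one_mul]
      rw [← sum_filter, sum_subtype (univ.filter fun w : V => (w : G) ∈ U) (p := (· ∈ U'))
        (fun w => by simp [U', Subgroup.mem_subgroupOf]) fun w => conj (ψ w)]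
    rw [hsub, mul_sum, mul_sum, mul_sum, mul_sum, ← sum_sub_distrib]
    refine sum_congr rfl fun w _ => ?_
    split_ifs <;> ring

variable {R : Finset G}

/-- Sixteen times a section is an integer. -/
theorem IsE16.exists_int_sect (h : IsE16 V) (hR : IsReps V R) {r : G} (hr : r ∈ R)
    (χ ψ : IrrCharacter G) : ∃ k : ℤ, 16 * sect r χ ψ = (k : ℂ) := by
  obtain ⟨k, hk⟩ := h.exists_int_sum hR (fun x => if ∃ g : G, g * r * g⁻¹ = x then 16 else 0)
    (by
      have he : (fun v : V => if ∃ g : G, g * r * g⁻¹ = (v : G) then (16 : ℂ) else 0) =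
          ∑ w ∈ univ.filter (fun w : V => ∃ g : G, g * r * g⁻¹ = (w : G)),
            fun v : V => if v = w then (16 : ℂ) else 0 := by
        funext v
        simp only [Finset.sum_apply, sum_ite_eq, mem_filter, mem_univ, true_and]
      rw [he]
      exact isGeneralized_sum _ fun w _ => h.isGeneralized_point w)
    (fun g v _ _ => by
      refine if_congr ⟨?_, ?_⟩ rfl rfl
      · rintro ⟨a, ha⟩
        refine ⟨g⁻¹ * a, ?_⟩
        rw [show g⁻¹ * a * r * (g⁻¹ * a)⁻¹ = g⁻¹ * (a * r * a⁻¹) * g by group, ha]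
        group
      · rintro ⟨a, ha⟩
        refine ⟨g * a, ?_⟩
        rw [← ha]
        group) χ ψ
  refine ⟨k, ?_⟩
  rw [← hk, sum_eq_single r]
  · rw [if_pos ⟨1, by simp⟩]
  · intro x hx hne
    rw [if_neg, zero_mul]
    rintro ⟨g, hg⟩
    exact hne (hR.eq r hr x hx g hg).symm
  · exact fun h' => absurd hr h'

/-- The congruence from a subgroup of order four invariant under fusion. -/
theorem IsE16.exists_int_outside (h : IsE16 V) (hR : IsReps V R) {U : Subgroup G} (hUV : U ≤ V)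
    (hU : Nat.card U = 4) (hinv : ∀ n ∈ Subgroup.normalizer (V : Set G), ∀ u ∈ U,
      n * u * n⁻¹ ∈ U) (χ ψ : IrrCharacter G) :
    ∃ k : ℤ, ∑ r ∈ R, (if r ∈ U then 0 else 4) * sect r χ ψ = (k : ℂ) := by
  refine h.exists_int_sum hR (fun x => if x ∈ U then 0 else 4)
    (h.isGeneralized_outside hUV hU) (fun g v hv hgv => ?_) χ ψ
  obtain ⟨n, hn, he⟩ := h.fusion hv hgv
  rw [← he]
  refine if_congr ⟨fun h' => ?_, hinv n hn v⟩ rfl rfl
  have := hinv n⁻¹ (inv_mem hn) _ h'
  simpa [mul_assoc] using this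

/-! ### The principal block -/

variable {M : Ideal AlgInt} [M.IsPrime]

theorem sect_eq_contrib (hM : IsPModular 2 M) {x : G} {k : ℕ} (hx : orderOf x = 2 ^ k)
    {χ ψ : IrrCharacter G} (hχ : χ ∈ principalBlock M G) (hψ : ψ ∈ principalBlock M G) :
    sect x χ ψ = contrib 2 (principalBlock M ↥C{x}) x χ ψ := by
  haveI : Fact (Nat.Prime 2) := ⟨Nat.prime_two⟩
  rw [contrib, CfsgLib.Char.classInner_def, sect]
  congr 1
  refine sum_congr rfl fun s _ => ?_
  rw [subPart_eq_regPart hM isPBlock_principalBlock, subPart_eq_regPart hM isPBlock_principalBlock]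
  by_cases hs : 2 ∣ orderOf s
  · rw [if_pos hs, regPart_of_dvd hs, zero_mul]
  · rw [if_neg hs, regPart_of_not_dvd hs, regPart_of_not_dvd hs,
      principal_section hM hx hχ s hs, principal_section hM hx hψ s hs]
    rfl

theorem sect_idem [Fintype (IrrCharacter G)] (hM : IsPModular 2 M) {x : G} {k : ℕ} (hx : orderOf x = 2 ^ k)
    (χ φ : ↥(principalBlock M G)) :
    ∑ ψ : ↥(principalBlock M G), sect x χ.1 ψ.1 * sect x ψ.1 φ.1 = sect x χ.1 φ.1 := by
  haveI : Fact (Nat.Prime 2) := ⟨Nat.prime_two⟩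
  have h := contrib_mul hM (rfl : C{x} = Subgroup.centralizer ({x} : Set G)) hx
    (isInduced_principal (M := M) hM hx) χ.1 φ.1
  rw [sum_subtype (univ.filter (· ∈ principalBlock M G)) (p := (· ∈ principalBlock M G)) (by simp)]
    at h
  rw [sect_eq_contrib hM hx χ.2 φ.2, ← h]
  exact sum_congr rfl fun ψ _ => by
    rw [sect_eq_contrib hM hx χ.2 ψ.2, sect_eq_contrib hM hx ψ.2 φ.2]

theorem sum_sect_diag [Fintype (IrrCharacter G)] (hM : IsPModular 2 M) {x : G} {k : ℕ} (hx : orderOf x = 2 ^ k) :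
    ∑ χ : ↥(principalBlock M G), sect x χ.1 χ.1 =
      (blockRank 2 (principalBlock M ↥C{x}) : ℂ) := by
  haveI : Fact (Nat.Prime 2) := ⟨Nat.prime_two⟩
  rw [← sum_contrib_diag hM (rfl : C{x} = Subgroup.centralizer ({x} : Set G)) hx
      (isInduced_principal (M := M) hM hx),
    sum_subtype (univ.filter (· ∈ principalBlock M G)) (p := (· ∈ principalBlock M G)) (by simp)]
  exact sum_congr rfl fun χ _ => sect_eq_contrib hM hx χ.2 χ.2

/-- A centralizer with a normal complement of the Sylow subgroup. -/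
theorem sect_nilpotent (hM : IsPModular 2 M) {x : G} {k : ℕ} (hx : orderOf x = 2 ^ k)
    (K : Subgroup ↥C{x}) [K.Normal] (hK : ¬ 2 ∣ Nat.card K) (hidx : K.index = 16)
    (χ ψ : ↥(principalBlock M G)) :
    16 * sect x χ.1 ψ.1 = (χ.1 : G → ℂ) x * conj ((ψ.1 : G → ℂ) x) := by
  have hreg : ∀ s : C{x}, ¬ 2 ∣ orderOf s ↔ s ∈ K := fun s => by
    refine ⟨fun hs => ?_, fun hs h2 => hK (h2.trans (Subgroup.orderOf_dvd_natCard K hs))⟩
    rw [← QuotientGroup.eq_one_iff, ← orderOf_eq_one_iff]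
    refine Nat.eq_one_of_dvd_coprimes (Nat.Coprime.pow_right 4
      (Nat.prime_two.coprime_iff_not_dvd.2 hs).symm) (orderOf_map_dvd (QuotientGroup.mk' K) s) ?_
    rw [show (2 : ℕ) ^ 4 = K.index by rw [hidx]; norm_num, Subgroup.index]
    exact orderOf_dvd_natCard _
  have hcore : ∀ s ∈ K, (s : G) ∈ centralizerPPrimeCore 2 x := fun s hs =>
    Subgroup.mem_map.2 ⟨s, CfsgLib.Solvable.le_pPrimeCore 2 inferInstance
      (Nat.prime_two.coprime_iff_not_dvd.2 hK).symm hs, rfl⟩
  have hterm : ∀ s : C{x},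
      (if 2 ∣ orderOf s then 0 else (χ.1 : G → ℂ) (x * s) * conj ((ψ.1 : G → ℂ) (x * s))) =
        if s ∈ K then (χ.1 : G → ℂ) x * conj ((ψ.1 : G → ℂ) x) else 0 := fun s => by
    by_cases hs : s ∈ K
    · rw [if_neg ((hreg s).2 hs), if_pos hs, principal_apply_mul_core hM hx (hcore s hs) χ.2,
        principal_apply_mul_core hM hx (hcore s hs) ψ.2]
    · rw [if_pos (not_not.1 fun h => hs ((hreg s).1 h)), if_neg hs]
  rw [sect, sum_congr rfl fun s _ => hterm s, ← sum_filter, sum_const, nsmul_eq_mul,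
    ← K.card_mul_index, hidx, ← Fintype.card_subtype, ← Nat.card_eq_fintype_card]
  have : (Nat.card K : ℂ) ≠ 0 := Nat.cast_ne_zero.2 Nat.card_pos.ne'
  push_cast
  field_simp

/-- The values of the principal block on the Sylow subgroup do not vanish. -/
theorem IsE16.apply_ne_zero (h : IsE16 V) (hM : IsPModular 2 M) {x : G} (hx : x ∈ V)
    {χ : IrrCharacter G} (hχ : χ ∈ principalBlock M G) : (χ : G → ℂ) x ≠ 0 := by
  haveI : Fact (Nat.Prime 2) := ⟨Nat.prime_two⟩
  intro h0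
  have h1 := (show SameBlock M (fun _ : G => (1 : ℂ)) (χ : G → ℂ) from hχ) x
  simp only [centralChar, h0, mul_zero, zero_div, sub_zero, mul_one, div_one] at h1
  rw [memLocalIdeal_natCast_iff hM] at h1
  refine h.odd_index (h1.trans (Subgroup.index_dvd_of_le ?_))
  exact fun v hv => Subgroup.mem_centralizer_singleton_iff.2 (h.comm v hv x hx)

/-- The rank of the principal block is not one when a proportion is not one over a square sum. -/
theorem blockRank_ne_one [Fintype (IrrCharacter G)] (hM : IsPModular 2 M)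
    {a b : ℕ} (hr : ratio G = (a : ℂ) / b) (hb : b ≠ 0) (hab : ¬ a ∣ b) :
    blockRank 2 (principalBlock M G) ≠ 1 := by
  haveI : Fact (Nat.Prime 2) := ⟨Nat.prime_two⟩
  intro h1
  set S := Submodule.span ℂ ((fun χ : IrrCharacter G => pRegularPart 2 (χ : G → ℂ)) ''
    principalBlock M G)
  have hmem : ∀ χ ∈ principalBlock M G, regPart 2 (χ : G → ℂ) ∈ S := fun χ hχ =>
    Submodule.subset_span ⟨χ, hχ, BlockB.pRegularPart_eq _⟩
  have hone : (⟨_, hmem _ oneIrr_mem_principalBlock⟩ : S) ≠ 0 := fun h => by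
    have h' := congrFun (congrArg Subtype.val h) 1
    simp [regPart_of_not_dvd, orderOf_one] at h'
  have hprop : ∀ χ ∈ principalBlock M G, ∀ s : G, ¬ 2 ∣ orderOf s →
      (χ : G → ℂ) s = (χ : G → ℂ) 1 := by
    intro χ hχ s hs
    obtain ⟨c, hc⟩ := exists_smul_eq_of_finrank_eq_one h1 hone ⟨_, hmem χ hχ⟩
    have h' := fun t => congrFun (congrArg Subtype.val hc) t
    have e1 := h' 1
    have es := h' s
    simp only [SetLike.val_smul, Pi.smul_apply, smul_eq_mul] at e1 es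
    rw [regPart_of_not_dvd (by rw [orderOf_one]; norm_num),
      regPart_of_not_dvd (by rw [orderOf_one]; norm_num)] at e1
    rw [regPart_of_not_dvd hs, regPart_of_not_dvd hs] at es
    rw [← es, ← e1]
    rfl

  have ht := sum_sect_diag (M := M) hM (x := (1 : G)) (k := 0) (by simp)
  rw [CfsgLib.GapOne.blockRank_principal_centralizer_one hM, h1] at ht
  have hsect : ∀ χ : ↥(principalBlock M G),
      sect 1 χ.1 χ.1 = ((charDegree (χ.1 : G → ℂ) ^ 2 : ℕ) : ℂ) * ((a : ℂ) / b) := by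
    intro χ
    rw [← hr, ← ratio_congr (CfsgLib.GapOne.centralizerOneEquiv (G := G)), sect, ratio,
      mul_left_comm ((charDegree (χ.1 : G → ℂ) ^ 2 : ℕ) : ℂ)]
    congr 1
    rw [mul_sum]
    refine sum_congr rfl fun s _ => ?_
    split_ifs with hs
    · rw [mul_zero]
    · rw [one_mul, hprop _ χ.2 _ (by rwa [Subgroup.orderOf_coe]), (irr_one χ.1).1, map_natCast]
      push_cast
      ring
  rw [sum_congr rfl fun χ _ => hsect χ, ← sum_mul, ← Nat.cast_sum, Nat.cast_one, mul_div_assoc',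
    div_eq_one_iff_eq (Nat.cast_ne_zero.2 hb), ← Nat.cast_mul, Nat.cast_inj] at ht
  exact hab (Dvd.intro_left _ ht)

end CfsgLib.E16
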